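import Cfsg.Agent.H415.C3.Kit

/-!
# S1920, case B: the kit, 2-groups and homomorphisms (helper415)

* `no_abelian8` : `A₆` has no abelian subgroup of order 8;
* `Kit.T5` : `C_G(N0)` has no subgroup `⟨a⟩ × ⟨b⟩ ≅ Z₄ × Z₂` meeting `⟨s⟩` trivially;
* `Kit.T6` : a homomorphism `f : C_G(N0) → {±1}` with `f s = 1` is trivial;
* `exists_kit` : the configuration `CB` gives a kit.
-/

set_option autoImplicit false

open Subgroup Equiv.Perm
open scoped commutatorElement Pointwise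

namespace Cfsg.Agent.H415.C3

/-- `(0 1 2 3)(4 5)` -/
def da : Equiv.Perm (Fin 6) := Equiv.swap 0 1 * Equiv.swap 1 2 * Equiv.swap 2 3 * Equiv.swap 4 5

/-- `(0 2)(4 5)` -/
def db : Equiv.Perm (Fin 6) := Equiv.swap 0 2 * Equiv.swap 4 5

theorem da_db : db * da * db⁻¹ = da⁻¹ := by decide

theorem da_four : da ^ 4 = 1 := by decide

theorem db_two : db ^ 2 = 1 := by decide

theorem da_db_ne : da * db ≠ db * da := by decide

theorem sign_da : Equiv.Perm.sign da = 1 := by decide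

theorem sign_db : Equiv.Perm.sign db = 1 := by decide

theorem card_A6 : Nat.card (alternatingGroup (Fin 6)) = 360 := by
  rw [nat_card_alternatingGroup]
  simp [Nat.factorial]

theorem no_abelian8 (W : Subgroup (alternatingGroup (Fin 6))) (hW : ∀ a ∈ W, ∀ b ∈ W, a * b = b * a) :
    Nat.card W ≠ 8 := by
  intro hc
  have h2 : Fact (Nat.Prime 2) := ⟨Nat.prime_two⟩
  have hfac : 2 ^ (Nat.card (alternatingGroup (Fin 6))).factorization 2 = 8 := by
    rw [card_A6, show (360 : ℕ) = 2 ^ 3 * 45 by norm_num, Nat.factorization_mul (by norm_num) (by norm_num),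
      Nat.Prime.factorization_pow Nat.prime_two]
    have : (45 : ℕ).factorization 2 = 0 := Nat.factorization_eq_zero_of_not_dvd (by norm_num)
    simp [this]
  let P : Sylow 2 (alternatingGroup (Fin 6)) := Sylow.ofCard W (by rw [hfac, hc])
  -- every Sylow subgroup is abelian
  have hall : ∀ Q : Sylow 2 (alternatingGroup (Fin 6)), ∀ a ∈ Q, ∀ b ∈ Q, a * b = b * a := by
    intro Q a ha b hb
    obtain ⟨g, hg⟩ := MulAction.exists_smul_eq (alternatingGroup (Fin 6)) P Q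
    rw [← hg] at ha hb
    have key : ∀ y ∈ g • P, g⁻¹ * y * g ∈ W := by
      intro y hy
      have h1 : y ∈ MulAut.conj g • (P : Subgroup (alternatingGroup (Fin 6))) := by
        rw [← Sylow.coe_subgroup_smul]; exact hy
      have h2 := Subgroup.mem_pointwise_smul_iff_inv_smul_mem.1 h1
      rw [← map_inv, MulAut.smul_def, MulAut.conj_apply, inv_inv] at h2
      exact h2
    have ha' := key a ha
    have hb' := key b hb
    have h3 := hW _ ha' _ hb'
    have h4 : g⁻¹ * (a * b) * g = g⁻¹ * (b * a) * g := by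
      calc g⁻¹ * (a * b) * g = (g⁻¹ * a * g) * (g⁻¹ * b * g) := by group
        _ = (g⁻¹ * b * g) * (g⁻¹ * a * g) := h3
        _ = _ := by group
    exact mul_left_cancel (mul_right_cancel h4)
  let a : alternatingGroup (Fin 6) := ⟨da, mem_alternatingGroup.2 sign_da⟩
  let b : alternatingGroup (Fin 6) := ⟨db, mem_alternatingGroup.2 sign_db⟩
  have hab : b * a * b⁻¹ = a⁻¹ := Subtype.ext da_db
  have hn : zpowers b ≤ normalizer (zpowers a : Set (alternatingGroup (Fin 6))) := by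
    rw [zpowers_le, mem_normalizer_iff]
    intro h
    have hconj : ∀ y ∈ zpowers a, b * y * b⁻¹ ∈ zpowers a := by
      rintro _ ⟨k, rfl⟩
      refine ⟨-k, ?_⟩
      change a ^ (-k) = b * a ^ k * b⁻¹
      rw [← conj_zpow, hab, inv_zpow, zpow_neg]
    refine ⟨hconj h, fun hh => ?_⟩
    have h5 := hconj _ hh
    have hb2 : b * b = 1 := by
      rw [← pow_two]; exact Subtype.ext db_two
    have hbi : b⁻¹ = b := by rw [inv_eq_iff_mul_eq_one]; exact hb2
    rw [hbi] at h5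
    have : b * (b * h * b) * b = h := by
      calc b * (b * h * b) * b = (b * b) * h * (b * b) := by group
        _ = h := by rw [hb2, one_mul, mul_one]
    rwa [this] at h5
  have ha2 : IsPGroup 2 (zpowers a) := by
    intro y
    refine ⟨2, Subtype.ext ?_⟩
    obtain ⟨k, hk⟩ := y.2
    have h4 : a ^ 4 = 1 := Subtype.ext da_four
    change ((y : alternatingGroup (Fin 6)) ^ 2 ^ 2) = 1
    rw [← hk]
    change (a ^ k) ^ 2 ^ 2 = 1
    rw [← zpow_natCast, ← zpow_mul, mul_comm, zpow_mul]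
    norm_num
    rw [h4, one_zpow]
  have hb2 : IsPGroup 2 (zpowers b) := by
    intro y
    refine ⟨1, Subtype.ext ?_⟩
    obtain ⟨k, hk⟩ := y.2
    have h4 : b ^ 2 = 1 := Subtype.ext db_two
    change ((y : alternatingGroup (Fin 6)) ^ 2 ^ 1) = 1
    rw [← hk]
    change (b ^ k) ^ 2 ^ 1 = 1
    rw [← zpow_natCast, ← zpow_mul, mul_comm, zpow_mul]
    norm_num
    rw [h4, one_zpow]
  obtain ⟨Q, hQ⟩ := (IsPGroup.to_sup_of_normal_left' ha2 hb2 hn).exists_le_sylow
  have h6 := hall Q a (hQ (le_sup_left (a := zpowers a) (mem_zpowers a))) b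
    (hQ (le_sup_right (b := zpowers b) (mem_zpowers b)))
  exact da_db_ne (congrArg Subtype.val h6)

variable {G : Type*} [Group G]

namespace Kit

variable {N0 A E : Subgroup G} {z s x r : G} {ψ : ↥A →* Equiv.Perm (Fin 6)}

/-- **T5** : no `Z₄ × Z₂` in `C_G(N0)` meeting `⟨s⟩` trivially. -/
theorem T5 [Finite G] (K : Kit N0 A E z s x r ψ) {a b : G} (ha : ∀ n ∈ N0, a * n = n * a) (hb : ∀ n ∈ N0, b * n = n * b)
    (hab : a * b = b * a) (ha4 : a ^ 4 = 1) (hb2 : b ^ 2 = 1)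
    (h : ∀ i j : ℕ, a ^ i * b ^ j ∈ zpowers s → 4 ∣ i ∧ 2 ∣ j) : False := by
  have hmem : ∀ i j : ℕ, ∀ n ∈ N0, a ^ i * b ^ j * n = n * (a ^ i * b ^ j) := by
    intro i j n hn
    have h1 : Commute a n := ha n hn
    have h2 : Commute b n := hb n hn
    exact ((h1.pow_left i).mul_left (h2.pow_left j)).eq
  have hpow : ∀ i j : ℕ, (a ^ i * b ^ j) ^ 2 ^ 2 = 1 := by
    intro i j
    have h1 : Commute (a ^ i) (b ^ j) := (show Commute a b from hab).pow_pow i j
    rw [h1.mul_pow, ← pow_mul, ← pow_mul, show i * 2 ^ 2 = 4 * i by ring, show j * 2 ^ 2 = 2 * (2 * j) by ring,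
      pow_mul, pow_mul, ha4, hb2, one_pow, one_pow, mul_one]
  let u : ↥A := ⟨a, K.comm_mem ha⟩
  let v : ↥A := ⟨b, K.comm_mem hb⟩
  have huv : u * v = v * u := Subtype.ext hab
  have hker : ∀ i j : ℕ, ψ u ^ i * ψ v ^ j = 1 → 4 ∣ i ∧ 2 ∣ j := by
    intro i j hij
    apply h i j
    refine K.T4 (hmem i j) (hpow i j) ?_
    rw [← map_pow, ← map_pow, ← map_mul] at hij
    exact hij
  have hsu : Equiv.Perm.sign (ψ u) = 1 := K.even_of_comm ha u.2
  have hsv : Equiv.Perm.sign (ψ v) = 1 := K.even_of_comm hb v.2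
  let σ : alternatingGroup (Fin 6) := ⟨ψ u, mem_alternatingGroup.2 hsu⟩
  let τ : alternatingGroup (Fin 6) := ⟨ψ v, mem_alternatingGroup.2 hsv⟩
  have hστ : Commute σ τ := Subtype.ext (by
    change ψ u * ψ v = ψ v * ψ u
    rw [← map_mul, ← map_mul, huv])
  have hk : ∀ i j : ℕ, σ ^ i * τ ^ j = 1 → 4 ∣ i ∧ 2 ∣ j := by
    intro i j hij
    exact hker i j (congrArg Subtype.val hij)
  have hσ4 : σ ^ 4 = 1 := Subtype.ext (by
    change ψ u ^ 4 = 1
    rw [← map_pow, ← map_one ψ]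
    exact congrArg ψ (Subtype.ext ha4))
  have hτ2 : τ ^ 2 = 1 := Subtype.ext (by
    change ψ v ^ 2 = 1
    rw [← map_pow, ← map_one ψ]
    exact congrArg ψ (Subtype.ext hb2))
  have hoσ : orderOf σ = 4 := by
    refine Nat.dvd_antisymm (orderOf_dvd_of_pow_eq_one hσ4) ?_
    exact (hk _ 0 (by rw [pow_orderOf_eq_one, pow_zero, mul_one])).1
  have hoτ : orderOf τ = 2 := by
    refine Nat.dvd_antisymm (orderOf_dvd_of_pow_eq_one hτ2) ?_
    exact (hk 0 _ (by rw [pow_orderOf_eq_one, pow_zero, mul_one])).2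
  let f := (zpowers σ).subtype.noncommCoprod (zpowers τ).subtype (by
    rintro ⟨_, ⟨i, rfl⟩⟩ ⟨_, ⟨j, rfl⟩⟩
    exact (hστ.zpow_zpow i j))
  have hf : Function.Injective f := by
    rw [MonoidHom.noncommCoprod_injective]
    refine ⟨(zpowers σ).subtype_injective, (zpowers τ).subtype_injective, ?_⟩
    rw [Subgroup.range_subtype, Subgroup.range_subtype, disjoint_iff, eq_bot_iff]
    rintro y ⟨h1, h2⟩
    have h1' : y ∈ Submonoid.powers σ := mem_powers_iff_mem_zpowers.2 h1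
    obtain ⟨i, rfl⟩ := h1'
    have h2' := (mem_powers_iff_mem_zpowers).2 h2
    obtain ⟨j, hj⟩ := h2'
    have hj' : τ ^ j = σ ^ i := hj
    -- `τ ^ j = σ ^ i`
    have h3 : σ ^ (3 * i) * τ ^ j = 1 := by
      rw [hj', ← pow_add, show 3 * i + i = 4 * i by ring, pow_mul, hσ4, one_pow]
    obtain ⟨h4, h5⟩ := hk _ _ h3
    obtain ⟨k, rfl⟩ := h5
    rw [pow_mul, hτ2, one_pow] at hj'
    rw [Subgroup.mem_bot]
    exact hj'.symm
  have hcard : Nat.card f.range = 8 := by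
    rw [Nat.card_congr (MonoidHom.ofInjective hf).toEquiv.symm, Nat.card_prod, Nat.card_zpowers, Nat.card_zpowers,
      hoσ, hoτ]
  refine no_abelian8 f.range ?_ hcard
  rintro _ ⟨⟨⟨_, ⟨i, rfl⟩⟩, ⟨_, ⟨j, rfl⟩⟩⟩, rfl⟩ _ ⟨⟨⟨_, ⟨i', rfl⟩⟩, ⟨_, ⟨j', rfl⟩⟩⟩, rfl⟩
  have hc : ∀ p q : ↥(zpowers σ) × ↥(zpowers τ), p * q = q * p := by
    rintro ⟨⟨_, ⟨i, rfl⟩⟩, ⟨_, ⟨j, rfl⟩⟩⟩ ⟨⟨_, ⟨i', rfl⟩⟩, ⟨_, ⟨j', rfl⟩⟩⟩
    refine Prod.ext (Subtype.ext ?_) (Subtype.ext ?_)
    · exact ((Commute.refl σ).zpow_zpow i i').eq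
    · exact ((Commute.refl τ).zpow_zpow j j').eq
  rw [← map_mul, ← map_mul, hc]

/-- **T6** : a homomorphism `C_G(N0) → {±1}` with `f s = 1` is trivial. -/
theorem T6 [Finite G] (K : Kit N0 A E z s x r ψ) (f : ↥(centralizer (N0 : Set G)) →* ℤˣ)
    (hfs : ∀ h : s ∈ centralizer (N0 : Set G), f ⟨s, h⟩ = 1) (g : ↥(centralizer (N0 : Set G))) : f g = 1 := by
  have hcen : ∀ y : G, y ∈ centralizer (N0 : Set G) ↔ ∀ n ∈ N0, y * n = n * y := by
    intro y
    rw [mem_centralizer_iff]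
    exact ⟨fun h n hn => (h n hn).symm, fun h n hn => (h n hn).symm⟩
  have hEC : E ≤ centralizer (N0 : Set G) := fun e he => (hcen e).2 (K.E_comm e he)
  have hsC : s ∈ centralizer (N0 : Set G) := (hcen s).2 fun n hn => (K.s_cen n hn).symm
  -- `f` is trivial on `E`
  have hfE : ∀ e (he : e ∈ E), f ⟨e, hEC he⟩ = 1 := by
    have hle : E ≤ (f.ker).map (centralizer (N0 : Set G)).subtype := by
      conv_lhs => rw [← K.E_perf]
      rw [commutator_le]
      intro u hu v hv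
      refine ⟨⁅(⟨u, hEC hu⟩ : ↥(centralizer (N0 : Set G))), (⟨v, hEC hv⟩ : ↥(centralizer (N0 : Set G)))⁆, ?_, rfl⟩
      rw [SetLike.mem_coe, MonoidHom.mem_ker, map_commutatorElement, commutatorElement_eq_one_iff_mul_comm]
      exact mul_comm _ _
    intro e he
    obtain ⟨w, hw, hwe⟩ := hle he
    have : w = ⟨e, hEC he⟩ := Subtype.ext hwe
    rw [← this]
    exact hw
  have hgc := (hcen (g : G)).1 g.2
  obtain ⟨e, he, heψ⟩ := K.E_img (ψ ⟨g, K.comm_mem hgc⟩) (K.even_of_comm hgc _)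
  -- `k = e⁻¹ g` lies in the kernel
  let k : ↥(centralizer (N0 : Set G)) := (⟨e, hEC he⟩ : ↥(centralizer (N0 : Set G)))⁻¹ * g
  have hkc := (hcen (k : G)).1 k.2
  have hk1 : ψ ⟨k, K.comm_mem hkc⟩ = 1 := by
    have h1 : (⟨k, K.comm_mem hkc⟩ : ↥A) = (⟨e, K.E_A he⟩ : ↥A)⁻¹ * ⟨g, K.comm_mem hgc⟩ := rfl
    rw [h1, map_mul, map_inv, heψ (K.E_A he), inv_mul_cancel]
  have hfk : f k = 1 := by
    -- the order of `k` is `2 ^ t * m`
    obtain ⟨t, m, hm, hkm⟩ := Nat.exists_eq_two_pow_mul_odd (orderOf_pos k).ne'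
    have h2 : (k : G) ^ m ∈ zpowers s := by
      have hc : ∀ n ∈ N0, (k : G) ^ m * n = n * (k : G) ^ m := fun n hn =>
        ((show Commute (k : G) n from hkc n hn).pow_left m).eq
      refine K.T4 (k := t) hc ?_ ?_
      · rw [← pow_mul, mul_comm m, ← hkm, ← Subgroup.coe_pow, pow_orderOf_eq_one]; rfl
      · have h3 : (⟨(k : G) ^ m, K.comm_mem hc⟩ : ↥A) = (⟨k, K.comm_mem hkc⟩ : ↥A) ^ m := rfl
        rw [h3, map_pow, hk1, one_pow]
    have h3 : f k ^ m = 1 := by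
      rw [← map_pow]
      obtain ⟨i, hi⟩ := h2
      have h4 : k ^ m = (⟨s, hsC⟩ : ↥(centralizer (N0 : Set G))) ^ i := Subtype.ext (by
        change (k : G) ^ m = s ^ i
        exact hi.symm)
      rw [h4, map_zpow, hfs hsC, one_zpow]
    rcases Int.units_eq_one_or (f k) with h4 | h4
    · exact h4
    · rw [h4, hm.neg_one_pow] at h3
      exact absurd h3 (by decide)
  have hg : g = (⟨e, hEC he⟩ : ↥(centralizer (N0 : Set G))) * k := by
    change g = _ * (_⁻¹ * g)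
    rw [mul_inv_cancel_left]
  rw [hg, map_mul, hfE e he, hfk, mul_one]

end Kit

end Cfsg.Agent.H415.C3
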