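import Cfsg.Agent.H415.C3.Kit

/-!
# S1920, case B: the lifted kit (helper415)

`V` over `K`, `Gh ≤ GL(V)`, `π : Gh → G` onto with kernel the scalars of `Gh`.
`LKit …` : the kit lifted to `Gh` (obtained from a `Kit` by `exists_lkit`, `H415/C3/Lift.lean`).
* `LKit.T1` : `g ∈ Gh` commuting with `Eh`, `[g, n] ∈ K^* ⟨zh⟩` for `n ∈ Nh` ⇒ `[g, sh]` is a scalar;
* `LKit.T3` : `ρ₁ ρ₂ : Eh → Gh`, `e = ρ₁ e * ρ₂ e`, commuting images, commuting with `Nh`: `ρ₁` or `ρ₂` is trivial;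
* `LKit.T4E` : a 2-element of `Gh` commuting with `Nh` and `Eh` is a scalar times a power of `sh`;
* `LKit.T5`, `LKit.T6`, `LKit.T7` are in `H415/C3/LKitTwo.lean`.
-/

set_option autoImplicit false

open Subgroup

namespace Cfsg.Agent.H415.C3

variable {G : Type*} [Group G] {K : Type*} [Field K] {V : Type*} [AddCommGroup V] [Module K V]

/-- `g` is a scalar -/
def IsSc (g : V ≃ₗ[K] V) : Prop := ∃ c : K, ∀ v, g v = c • v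

/-- **A linear lift** of `G`. -/
structure Lin (Gh : Subgroup (V ≃ₗ[K] V)) (π : ↥Gh →* G) : Prop where
  surj : Function.Surjective π
  ker : ∀ g : ↥Gh, π g = 1 ↔ IsSc (g : V ≃ₗ[K] V)

/-- **The lifted kit.** -/
structure LKit (Gh : Subgroup (V ≃ₗ[K] V)) (π : ↥Gh →* G) (N0 A E : Subgroup G) (z s x r : G)
    (Nh Eh : Subgroup (V ≃ₗ[K] V)) (zh sh xh rh : V ≃ₗ[K] V) : Prop where
  mem_Nh : ∀ g, g ∈ Nh ↔ ∃ h : g ∈ Gh, π ⟨g, h⟩ ∈ N0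
  Eh_le : Eh ≤ Gh
  Eh_perf : ⁅Eh, Eh⁆ = Eh
  Eh_mem : ∀ g ∈ Eh, ∀ h : g ∈ Gh, π ⟨g, h⟩ ∈ E
  Eh_surj : ∀ e ∈ E, ∃ g ∈ Eh, ∀ h : g ∈ Gh, π ⟨g, h⟩ = e
  Eh_comm : ∀ e ∈ Eh, ∀ n ∈ Nh, e * n = n * e
  zN : zh ∈ Nh
  sN : sh ∈ Nh
  pi_z : ∀ h : zh ∈ Gh, π ⟨zh, h⟩ = z
  pi_s : ∀ h : sh ∈ Gh, π ⟨sh, h⟩ = s
  z_sq : zh * zh = 1
  z_ne : ¬ IsSc zh
  z_comm : ∀ n ∈ Nh, zh * n = n * zh
  /-- commutators are `±1` or `±zh` -/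
  comm : ∀ n ∈ Nh, ∀ m ∈ Nh, ∃ c : K, (c = 1 ∨ c = -1) ∧
    ((∀ v, (n * m) v = c • (m * n) v) ∨ (∀ v, (n * m) v = c • (zh * m * n) v))
  /-- squares are scalars or scalars times `zh` -/
  sq : ∀ n ∈ Nh, ∃ c : K, c ≠ 0 ∧ ((∀ v, (n * n) v = c • v) ∨ (∀ v, (n * n) v = c • zh v))
  /-- the square of `sh` -/
  s_sq : ∃ c : K, c ≠ 0 ∧ ∀ v, (sh * sh) v = c • zh v
  /-- `sh` commutes with `Nh` up to sign -/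
  s_comm : ∀ n ∈ Nh, (∀ v, (n * sh) v = (sh * n) v) ∨ (∀ v, (n * sh) v = - (sh * n) v)
  xE : xh ∈ Eh
  pi_x : ∀ h : xh ∈ Gh, π ⟨xh, h⟩ = x
  x_five : ∃ k, xh ^ 5 ^ k = 1
  rG : rh ∈ Gh
  pi_r : ∀ h : rh ∈ Gh, π ⟨rh, h⟩ = r
  rN : rh ∈ normalizer (Nh : Set (V ≃ₗ[K] V))
  rE : rh ∈ normalizer (Eh : Set (V ≃ₗ[K] V))
  /-- `rh` inverts `sh` up to a scalar -/
  r_s : ∃ c : K, c ≠ 0 ∧ ∀ v, (rh * sh) v = c • (sh⁻¹ * rh) v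

end Cfsg.Agent.H415.C3
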