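import Cfsg.Agent.H415.C3.Kit

/-!
# S1920, case B: the kit of a configuration (helper415)

`exists_kit` : the configuration `CB` gives a `Kit`.
-/

set_option autoImplicit false

open Subgroup Equiv.Perm
open scoped commutatorElement

namespace Cfsg.Agent.H415.C3

open Cfsg.Agent.H13.Co3 (CB)

variable {G : Type*} [Group G]

/-- the derived series of a subgroup -/
def der (H : Subgroup G) : ℕ → Subgroup G
  | 0 => H
  | k + 1 => ⁅der H k, der H k⁆

theorem der_succ_le (H : Subgroup G) (k : ℕ) : der H (k + 1) ≤ der H k := commutator_le_self _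

theorem der_le (H : Subgroup G) (k : ℕ) : der H k ≤ H := by
  induction k with
  | zero => exact le_rfl
  | succ k ih => exact (der_succ_le H k).trans ih

theorem der_stable [Finite G] (H : Subgroup G) : ∃ k, ⁅der H k, der H k⁆ = der H k := by
  by_contra hcon
  push Not at hcon
  have h1 : ∀ k, Nat.card (der H k) + k ≤ Nat.card H := by
    intro k
    induction k with
    | zero => exact le_rfl
    | succ k ih =>
      have h2 : der H (k + 1) < der H k := lt_of_le_of_ne (der_succ_le H k) (hcon k)
      have h3 : Nat.card (der H (k + 1)) < Nat.card (der H k) := by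
        refine lt_of_le_of_ne (Subgroup.card_le_of_le h2.le) fun h => h2.ne ?_
        exact Subgroup.eq_of_le_of_card_ge h2.le h.ge
      omega
  have h4 := h1 (Nat.card H + 1)
  omega

theorem der_normalizer {H : Subgroup G} {r : G} (hr : r ∈ normalizer (H : Set G)) (k : ℕ) :
    r ∈ normalizer (der H k : Set G) := by
  induction k with
  | zero => exact hr
  | succ k ih =>
    have h1 : ∀ K : Subgroup G, r ∈ normalizer (K : Set G) ↔ K.map (MulAut.conj r).toMonoidHom = K := by
      intro K
      rw [mem_normalizer_iff]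
      constructor
      · intro h
        ext y
        constructor
        · rintro ⟨w, hw, rfl⟩
          exact (h w).1 hw
        · intro hy
          refine ⟨r⁻¹ * y * r, ?_, ?_⟩
          · rw [SetLike.mem_coe, h]
            have : r * (r⁻¹ * y * r) * r⁻¹ = y := by group
            rwa [this]
          · change r * (r⁻¹ * y * r) * r⁻¹ = y
            group
      · intro h y
        constructor
        · intro hy
          rw [← h]
          exact ⟨y, hy, rfl⟩
        · intro hy
          rw [← h] at hy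
          obtain ⟨w, hw, hwy⟩ := hy
          have : w = y := by
            have h2 : r * w * r⁻¹ = r * y * r⁻¹ := hwy
            exact mul_left_cancel (mul_right_cancel h2)
          rwa [← this]
    rw [h1] at ih ⊢
    change (⁅der H k, der H k⁆).map _ = ⁅der H k, der H k⁆
    rw [map_commutator, ih]

/-- **The kit of a configuration.** -/
theorem exists_kit [Finite G] {P N0 : Subgroup G} {z s : G} {ψ : ↥(normalizer (P : Set G)) →* Equiv.Perm (Fin 6)}
    (C : CB P N0 z s ψ) : ∃ (A E : Subgroup G) (x r : G) (φ : ↥A →* Equiv.Perm (Fin 6)), Kit N0 A E z s x r φ := by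
  have hzN : z ∈ N0 := C.PN C.zP
  have hz : ∀ {g : G}, (∀ n ∈ N0, g * n = n * g ∨ g * n = z * (n * g)) → g * z = z * g := by
    intro g hg
    rcases hg z hzN with h | h
    · exact h
    · exfalso
      have h1 : g * z = g := by
        rw [h, ← mul_assoc, C.z_sq, one_mul]
      exact C.z_ne (by simpa using h1)
  have hzz : z⁻¹ = z := by rw [inv_eq_iff_mul_eq_one]; exact C.z_sq
  -- the group `A`
  let A : Subgroup G :=
    { carrier := {g | ∀ n ∈ N0, g * n = n * g ∨ g * n = z * (n * g)}
      one_mem' := fun n _ => Or.inl (by rw [one_mul, mul_one])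
      mul_mem' := by
        intro a b ha hb n hn
        have h3 := hz ha
        rcases ha n hn with h1 | h1 <;> rcases hb n hn with h2 | h2
        · left
          rw [mul_assoc, h2, ← mul_assoc, h1, mul_assoc]
        · right
          rw [mul_assoc, h2, ← mul_assoc, h3, mul_assoc, ← mul_assoc a n b, h1, mul_assoc]
        · right
          rw [mul_assoc, h2, ← mul_assoc, h1, mul_assoc, mul_assoc]
        · left
          rw [mul_assoc, h2, ← mul_assoc, h3, mul_assoc, ← mul_assoc a n b, h1, mul_assoc, ← mul_assoc z z, C.z_sq,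
            one_mul, mul_assoc]
      inv_mem' := by
        intro a ha n hn
        have h3 := hz ha
        have h4 : a⁻¹ * z = z * a⁻¹ := by
          rw [inv_mul_eq_iff_eq_mul, ← mul_assoc, h3, mul_inv_cancel_right]
        rcases ha n hn with h1 | h1
        · left
          rw [inv_mul_eq_iff_eq_mul, ← mul_assoc, h1, mul_inv_cancel_right]
        · right
          rw [inv_mul_eq_iff_eq_mul, ← mul_assoc, h3, mul_assoc, ← mul_assoc a n, h1]
          rw [← mul_assoc z, ← mul_assoc z, C.z_sq, one_mul, mul_inv_cancel_right] }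
  have hmemA : ∀ g, g ∈ A ↔ ∀ n ∈ N0, g * n = n * g ∨ g * n = z * (n * g) := fun g => Iff.rfl
  have hAP : A ≤ normalizer (P : Set G) := fun g hg => C.key hg
  let φ : ↥A →* Equiv.Perm (Fin 6) := ψ.comp (inclusion hAP)
  have hφ : ∀ g (hg : g ∈ A), φ ⟨g, hg⟩ = ψ ⟨g, hAP hg⟩ := fun g hg => rfl
  have hcomm : ∀ {g : G}, (∀ n ∈ N0, g * n = n * g) → g ∈ A := fun h n hn => Or.inl (h n hn)
  have hNA : N0 ≤ A := fun n hn m hm => C.comm n hn m hm
  -- elements of `A` normalise `N0`
  have hAN : ∀ g ∈ A, g ∈ normalizer (N0 : Set G) := by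
    have h1 : ∀ g ∈ A, ∀ n ∈ N0, g * n * g⁻¹ ∈ N0 := by
      intro g hg n hn
      rcases hg n hn with h | h
      · rw [h, mul_inv_cancel_right]; exact hn
      · rw [h, mul_assoc, mul_inv_cancel_right]; exact mul_mem hzN hn
    intro g hg
    rw [mem_normalizer_iff]
    intro n
    refine ⟨h1 g hg n, fun h => ?_⟩
    have h2 := h1 g⁻¹ (inv_mem hg) _ h
    have : g⁻¹ * (g * n * g⁻¹) * g⁻¹⁻¹ = n := by group
    rwa [this] at h2
  -- the centraliser of `N0`
  let D : Subgroup G := centralizer (N0 : Set G)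
  have hD : ∀ g, g ∈ D ↔ ∀ n ∈ N0, g * n = n * g := by
    intro g
    rw [mem_centralizer_iff]
    exact ⟨fun h n hn => (h n hn).symm, fun h n hn => (h n hn).symm⟩
  have hDA : D ≤ A := fun g hg => hcomm ((hD g).1 hg)
  obtain ⟨k, hk⟩ := der_stable D
  have himg : ∀ k, alternatingGroup (Fin 6) ≤ ((der D k).subgroupOf A).map φ := by
    intro k
    induction k with
    | zero =>
      intro π hπ
      obtain ⟨h, hh, hψ⟩ := C.even π (mem_alternatingGroup.1 hπ)
      have h1 : (h : G) ∈ A := hcomm hh
      exact ⟨⟨h, h1⟩, mem_subgroupOf.2 ((hD _).2 hh), hψ⟩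
    | succ k ih =>
      have h1 : ⁅(der D k).subgroupOf A, (der D k).subgroupOf A⁆ ≤ (der D (k + 1)).subgroupOf A := by
        rw [commutator_le]
        intro a ha b hb
        rw [mem_subgroupOf] at ha hb ⊢
        exact commutator_mem_commutator ha hb
      refine le_trans ?_ (map_mono h1)
      rw [map_commutator]
      refine le_trans ?_ (commutator_mono ih ih)
      exact (commutator_alternatingGroup_eq_self (by simp)).ge
  -- the element `r`
  obtain ⟨r, hrN, hψr⟩ := C.frat d4
  have hrD : (r : G) ∈ normalizer (D : Set G) := by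
    rw [mem_normalizer_iff] at hrN ⊢
    intro y
    constructor
    · intro hy
      rw [hD] at hy ⊢
      intro n hn
      have h1 : (r : G)⁻¹ * n * r ∈ N0 := by
        rw [hrN]
        have : (r : G) * ((r : G)⁻¹ * n * r) * (r : G)⁻¹ = n := by group
        rw [this]; exact hn
      have h2 := hy _ h1
      calc (r : G) * y * (r : G)⁻¹ * n = r * (y * ((r : G)⁻¹ * n * r)) * (r : G)⁻¹ := by group
        _ = r * (((r : G)⁻¹ * n * r) * y) * (r : G)⁻¹ := by rw [h2]
        _ = _ := by group
    · intro hy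
      rw [hD] at hy ⊢
      intro n hn
      have h1 := hy _ ((hrN n).1 hn)
      have h2 : (r : G) * (y * n) * (r : G)⁻¹ = r * (n * y) * (r : G)⁻¹ := by
        calc (r : G) * (y * n) * (r : G)⁻¹ = (r * y * (r : G)⁻¹) * (r * n * (r : G)⁻¹) := by group
          _ = (r * n * (r : G)⁻¹) * (r * y * (r : G)⁻¹) := h1
          _ = _ := by group
      exact mul_left_cancel (mul_right_cancel h2)
  -- the order of `s`
  have hs4 : s ^ 4 = 1 := by
    rw [show 4 = 2 * 2 by norm_num, pow_mul, pow_two s, C.s_sq, pow_two, C.z_sq]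
  have hsinv : s⁻¹ = s ^ 3 := by
    rw [inv_eq_iff_mul_eq_one, ← pow_succ', hs4]
  have hrs : (r : G) * s = s⁻¹ * r := by
    have h1 : (r : G) * s * (r : G)⁻¹ ∈ N0 := ((mem_normalizer_iff.1 hrN) s).1 C.sN
    have h2 : ∀ m ∈ N0, (r : G) * s * (r : G)⁻¹ * m = m * ((r : G) * s * (r : G)⁻¹) := by
      intro m hm
      have h3 : (r : G)⁻¹ * m * r ∈ N0 := by
        rw [(mem_normalizer_iff.1 hrN)]
        have : (r : G) * ((r : G)⁻¹ * m * r) * (r : G)⁻¹ = m := by group
        rw [this]; exact hm
      have h4 := C.s_cen _ h3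
      calc (r : G) * s * (r : G)⁻¹ * m = r * (s * ((r : G)⁻¹ * m * r)) * (r : G)⁻¹ := by group
        _ = r * (((r : G)⁻¹ * m * r) * s) * (r : G)⁻¹ := by rw [h4]
        _ = _ := by group
    have h3 := C.cen _ h1 h2
    obtain ⟨i, hi⟩ := mem_powers_iff_mem_zpowers.2 h3
    have hi' : s ^ i = (r : G) * s * (r : G)⁻¹ := hi
    have h5 : ∀ j : ℕ, (s ^ j) = s ^ (j % 4) := by
      intro j
      conv_lhs => rw [← Nat.div_add_mod j 4, pow_add, pow_mul, hs4, one_pow, one_mul]
    have hsq : (r : G) * s * (r : G)⁻¹ * ((r : G) * s * (r : G)⁻¹) ≠ 1 := by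
      intro h
      apply C.z_ne
      rw [← C.s_sq]
      have : (r : G) * s * (r : G)⁻¹ * ((r : G) * s * (r : G)⁻¹) = r * (s * s) * (r : G)⁻¹ := by group
      rw [this] at h
      have h6 : (r : G) * (s * s) = r := mul_inv_eq_one.1 h
      simpa using h6
    have h7 : i % 4 < 4 := Nat.mod_lt _ (by norm_num)
    rw [h5] at hi'
    interval_cases hm : i % 4
    · exfalso; apply hsq; rw [← hi', pow_zero, one_mul]
    · exfalso
      have h8 : (r : G) * s = s * r := by
        rw [pow_one] at hi'
        rw [← inv_mul_cancel_right ((r : G) * s) r]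
        nth_rewrite 1 [← hi']
        rfl
      have h9 := (C.inv_s r hrN).2 h8
      rw [hψr, sign_d4] at h9
      exact absurd h9 (by decide)
    · exfalso; apply hsq; rw [← hi', ← pow_add]; exact hs4
    · rw [hsinv, hi']; group
  -- the element `x`
  obtain ⟨e, he, hφe⟩ := himg k (mem_alternatingGroup.2 sign_c5)
  have heE : (e : G) ∈ der D k := mem_subgroupOf.1 he
  obtain ⟨a, m, hm, hem⟩ := Nat.exists_eq_pow_mul_and_not_dvd (orderOf_pos (e : G)).ne' 5 (by norm_num)
  have hcop : Nat.Coprime 5 m := (Nat.Prime.coprime_iff_not_dvd (by norm_num)).2 hm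
  obtain ⟨u, hu1, hu2⟩ := Nat.chineseRemainder hcop 1 0
  have hx5 : ((e : G) ^ u) ^ 5 ^ a = 1 := by
    rw [← pow_mul]
    obtain ⟨w, hw⟩ := (Nat.modEq_zero_iff_dvd).1 hu2
    rw [hw, show m * w * 5 ^ a = (5 ^ a * m) * w by ring, ← hem, pow_mul, pow_orderOf_eq_one, one_pow]
  have hφx : φ (e ^ u) = c5 := by
    rw [map_pow, hφe]
    have h1 : c5 ^ 5 = 1 := c5_pow
    have h2 : u % 5 = 1 := hu1
    rw [← Nat.div_add_mod u 5, pow_add, pow_mul, h1, one_pow, one_mul, h2, pow_one]
  refine ⟨A, der D k, (e : G) ^ u, (r : G), φ, ?_⟩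
  exact
  { mem_A := hmemA
    N_two := C.N_two
    card := C.card
    sN := C.sN
    s_sq := C.s_sq
    z_sq := C.z_sq
    z_ne := C.z_ne
    s_cen := C.s_cen
    sq := C.sq
    comm := C.comm
    cen := C.cen
    N_ker := fun n h hn => C.psi_N n hn
    ker_card := by
      obtain ⟨m0, hm0, hc⟩ := C.ker_card
      have h1 : Nat.card φ.ker ∣ 64 * m0 := by
        rw [← hc]
        have h2 : Nat.card φ.ker = Nat.card (φ.ker.map (inclusion hAP)) :=
          Nat.card_congr (φ.ker.equivMapOfInjective _ (inclusion_injective hAP)).toEquiv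
        rw [h2]
        refine Subgroup.card_dvd_of_le ?_
        rintro _ ⟨y, hy, rfl⟩
        exact hy
      have h2 : 64 ∣ Nat.card φ.ker := by
        rw [← C.card, ← Nat.card_congr (subgroupOfEquivOfLe hNA).toEquiv]
        refine Subgroup.card_dvd_of_le ?_
        intro y hy
        exact C.psi_N _ (mem_subgroupOf.1 hy)
      obtain ⟨m1, hm1⟩ := h2
      refine ⟨m1, ?_, hm1⟩
      rw [hm1] at h1
      exact hm0.of_dvd_nat (Nat.dvd_of_mul_dvd_mul_left (by norm_num) h1)
    ker_solv := by
      have := C.ker_solv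
      have h3 : ∀ y : φ.ker, inclusion hAP y ∈ ψ.ker := fun y => y.2
      refine Group.isSolvable_of_isSolvable_injective
        (f := ((inclusion hAP).comp φ.ker.subtype).codRestrict ψ.ker h3) ?_
      intro y y' hyy
      have h4 := congrArg (fun w : ψ.ker => ((w : ↥(normalizer (P : Set G))) : G)) hyy
      exact Subtype.ext (Subtype.ext h4)
    even := fun g => C.inv_s ⟨g, hAP g.2⟩ (hAN _ g.2)
    E_perf := hk
    E_comm := fun e he => (hD e).1 (der_le D k he)
    E_img := by
      intro π hπ
      obtain ⟨y, hy, hyπ⟩ := himg k (mem_alternatingGroup.2 hπ)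
      exact ⟨y, mem_subgroupOf.1 hy, fun h => hyπ⟩
    xE := pow_mem heE u
    x_five := ⟨a, hx5⟩
    psi_x := fun h => hφx
    rN := hrN
    rE := der_normalizer hrD k
    r_s := hrs
    psi_r := by
      intro h
      have h1 : ((e : G) ^ u) ∈ normalizer (P : Set G) := pow_mem (hAP e.2) u
      have h2 : (⟨(r : G) * (e : G) ^ u * (r : G)⁻¹, hAP h⟩ : ↥(normalizer (P : Set G))) =
          r * ⟨(e : G) ^ u, h1⟩ * r⁻¹ := rfl
      have h3 : ψ ⟨(e : G) ^ u, h1⟩ = c5 := hφx
      rw [hφ, h2, map_mul, map_mul, map_inv, hψr, h3, d4_conj] }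

end Cfsg.Agent.H415.C3
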