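import Cfsg.Agent.H13.Co3.Def

/-!
# S1920, case B: the kit for the classical groups (helper415)

`Kit N0 A E z s x r ψ` : `A = {g | [g, N0] ≤ ⟨z⟩}`, `E ≤ C_G(N0)` perfect with `ψ(E) = A₆`, `x ∈ E` a 5-element, `r`.
* `exists_kit` : the configuration `CB` gives a kit;
* `Kit.T1` : an element of `A` commuting with `E` commutes with `s`;
* `Kit.T3` : commuting perfect subgroups of `A`;
* `Kit.T4` : 2-elements of `C_G(N0)` in the kernel lie in `⟨s⟩`; `Kit.T4E` : 2-elements of `C_G(N0) ∩ C_G(E)` lie in `⟨s⟩`;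
* `Kit.T5` : no `Z₄ × Z₄` in `C_G(N0)` meeting `⟨s⟩` trivially;
* `Kit.T7` : no even element of `A` conjugates `x` to `r x r⁻¹`.
-/

set_option autoImplicit false

open Subgroup Equiv.Perm
open scoped commutatorElement

namespace Cfsg.Agent.H415.C3

/-- the 5-cycle `(0 1 2 3 4)` -/
def c5 : Equiv.Perm (Fin 6) := Equiv.swap 0 1 * Equiv.swap 1 2 * Equiv.swap 2 3 * Equiv.swap 3 4

/-- the 4-cycle `(1 2 4 3)` -/
def d4 : Equiv.Perm (Fin 6) := Equiv.swap 1 2 * Equiv.swap 2 4 * Equiv.swap 4 3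

theorem sign_c5 : Equiv.Perm.sign c5 = 1 := by decide

theorem sign_d4 : Equiv.Perm.sign d4 = -1 := by decide

theorem c5_pow : c5 ^ 5 = 1 := by decide

theorem c5_ne : c5 ≠ 1 := by decide

theorem d4_conj : d4 * c5 * d4⁻¹ = c5 ^ 2 := by decide

theorem odd_of_conj : ∀ σ : Equiv.Perm (Fin 6), σ * c5 = c5 ^ 2 * σ → Equiv.Perm.sign σ = -1 := by decide +kernel

/-- the element `(0 1 2)` -/
def c3 : Equiv.Perm (Fin 6) := Equiv.swap 0 1 * Equiv.swap 1 2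

/-- the element `(1 2 3 4 5)` -/
def e5 : Equiv.Perm (Fin 6) := Equiv.swap 1 2 * Equiv.swap 2 3 * Equiv.swap 3 4 * Equiv.swap 4 5

theorem sign_c3 : Equiv.Perm.sign c3 = 1 := by decide

theorem sign_e5 : Equiv.Perm.sign e5 = 1 := by decide

theorem eq_one_of_comm : ∀ σ : Equiv.Perm (Fin 6), σ * c3 = c3 * σ → σ * e5 = e5 * σ → σ = 1 := by decide +kernel

variable {G : Type*} [Group G]

/-- **The kit.** -/
structure Kit (N0 A E : Subgroup G) (z s x r : G) (ψ : ↥A →* Equiv.Perm (Fin 6)) : Prop where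
  mem_A : ∀ g, g ∈ A ↔ ∀ n ∈ N0, g * n = n * g ∨ g * n = z * (n * g)
  N_two : IsPGroup 2 N0
  card : Nat.card N0 = 64
  sN : s ∈ N0
  s_sq : s * s = z
  z_sq : z * z = 1
  z_ne : z ≠ 1
  s_cen : ∀ n ∈ N0, n * s = s * n
  sq : ∀ n ∈ N0, n * n = 1 ∨ n * n = z
  comm : ∀ n ∈ N0, ∀ m ∈ N0, n * m = m * n ∨ n * m = z * (m * n)
  cen : ∀ n ∈ N0, (∀ m ∈ N0, n * m = m * n) → n ∈ zpowers s
  N_ker : ∀ n (h : n ∈ A), n ∈ N0 → ψ ⟨n, h⟩ = 1
  ker_card : ∃ m, Odd m ∧ Nat.card ψ.ker = 64 * m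
  ker_solv : Group.IsSolvable ψ.ker
  even : ∀ g : ↥A, Equiv.Perm.sign (ψ g) = 1 ↔ (g : G) * s = s * g
  E_perf : ⁅E, E⁆ = E
  E_comm : ∀ e ∈ E, ∀ n ∈ N0, e * n = n * e
  E_img : ∀ π : Equiv.Perm (Fin 6), Equiv.Perm.sign π = 1 → ∃ e ∈ E, ∀ h : e ∈ A, ψ ⟨e, h⟩ = π
  xE : x ∈ E
  x_five : ∃ k, x ^ 5 ^ k = 1
  psi_x : ∀ h : x ∈ A, ψ ⟨x, h⟩ = c5
  rN : r ∈ normalizer (N0 : Set G)
  rE : r ∈ normalizer (E : Set G)
  r_s : r * s = s⁻¹ * r
  psi_r : ∀ h : r * x * r⁻¹ ∈ A, ψ ⟨r * x * r⁻¹, h⟩ = c5 ^ 2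

namespace Kit

variable {N0 A E : Subgroup G} {z s x r : G} {ψ : ↥A →* Equiv.Perm (Fin 6)}

theorem comm_mem (K : Kit N0 A E z s x r ψ) {g : G} (h : ∀ n ∈ N0, g * n = n * g) : g ∈ A :=
  (K.mem_A g).2 fun n hn => Or.inl (h n hn)

theorem E_A (K : Kit N0 A E z s x r ψ) : E ≤ A := fun e he => K.comm_mem (K.E_comm e he)

theorem N_A (K : Kit N0 A E z s x r ψ) : N0 ≤ A := fun n hn => (K.mem_A n).2 fun m hm => K.comm n hn m hm

theorem z_mem (K : Kit N0 A E z s x r ψ) : z ∈ N0 := K.s_sq ▸ mul_mem K.sN K.sN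

theorem z_comm (K : Kit N0 A E z s x r ψ) {g : G} (hg : g ∈ A) : g * z = z * g := by
  rcases (K.mem_A g).1 hg z K.z_mem with h | h
  · exact h
  · exfalso
    have h1 : g * z = g := by
      rw [h, ← mul_assoc, K.z_sq, one_mul]
    exact K.z_ne (by simpa using h1)

theorem s_ne (K : Kit N0 A E z s x r ψ) : s * s ≠ 1 := by
  rw [K.s_sq]; exact K.z_ne

theorem s_inv (K : Kit N0 A E z s x r ψ) : s⁻¹ = z * s := by
  rw [inv_eq_iff_mul_eq_one, ← mul_assoc, K.z_comm (K.N_A K.sN), mul_assoc, K.s_sq, K.z_sq]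

theorem s_four (K : Kit N0 A E z s x r ψ) : s ^ 4 = 1 := by
  rw [show 4 = 2 * 2 by norm_num, pow_mul, pow_two s, K.s_sq, pow_two, K.z_sq]

/-- a permutation commuting with `A₆` is trivial -/
theorem psi_one (K : Kit N0 A E z s x r ψ) {g : ↥A} (h : ∀ e (he : e ∈ E), (g : G) * e = e * g) : ψ g = 1 := by
  obtain ⟨a, ha, ha'⟩ := K.E_img c3 sign_c3
  obtain ⟨b, hb, hb'⟩ := K.E_img e5 sign_e5
  refine eq_one_of_comm _ ?_ ?_
  · rw [← ha' (K.E_A ha), ← map_mul, ← map_mul]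
    exact congrArg ψ (Subtype.ext (h a ha))
  · rw [← hb' (K.E_A hb), ← map_mul, ← map_mul]
    exact congrArg ψ (Subtype.ext (h b hb))

/-- **T1** -/
theorem T1 (K : Kit N0 A E z s x r ψ) {g : G} (hg : g ∈ A) (h : ∀ e ∈ E, g * e = e * g) : g * s = s * g := by
  have h1 : ψ ⟨g, hg⟩ = 1 := K.psi_one (g := ⟨g, hg⟩) h
  exact (K.even ⟨g, hg⟩).1 (by rw [h1, Equiv.Perm.sign_one])

/-- elements commuting with `N0` are even -/
theorem even_of_comm (K : Kit N0 A E z s x r ψ) {g : G} (h : ∀ n ∈ N0, g * n = n * g) (hg : g ∈ A) :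
    Equiv.Perm.sign (ψ ⟨g, hg⟩) = 1 := (K.even ⟨g, hg⟩).2 (h s K.sN)

/-- the 2-subgroups of the kernel have order at most 64 -/
theorem two_le [Finite G] (K : Kit N0 A E z s x r ψ) (W : Subgroup ↥A) (hW : IsPGroup 2 W) (hk : W ≤ ψ.ker) :
    Nat.card W ∣ 64 := by
  obtain ⟨m, hm, hc⟩ := K.ker_card
  have h1 : Nat.card W ∣ 64 * m := by
    rw [← hc]; exact Subgroup.card_dvd_of_le hk
  obtain ⟨k, hk⟩ := (IsPGroup.iff_card (p := 2)).1 hW
  rw [hk] at h1 ⊢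
  exact (Nat.Coprime.pow_left k (Nat.coprime_two_left.2 hm)).dvd_of_dvd_mul_right h1

/-- **T4** : a 2-element of `C_G(N0)` in the kernel lies in `⟨s⟩`. -/
theorem T4 [Finite G] (K : Kit N0 A E z s x r ψ) {g : G} (h : ∀ n ∈ N0, g * n = n * g) {k : ℕ} (hk : g ^ 2 ^ k = 1)
    (h1 : ψ ⟨g, K.comm_mem h⟩ = 1) : g ∈ zpowers s := by
  -- the subgroup generated by `N0` and `g`
  have hgc : zpowers g ≤ centralizer (N0 : Set G) := by
    rw [zpowers_le, mem_centralizer_iff]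
    intro n hn
    exact (h n hn).symm
  let W : Subgroup G := N0 ⊔ zpowers g
  have hWA : W ≤ A := sup_le K.N_A (by rw [zpowers_le]; exact K.comm_mem h)
  have hnorm : N0 ≤ normalizer (zpowers g : Set G) := by
    intro n hn
    rw [mem_normalizer_iff]
    intro y
    constructor
    · intro hy
      have : n * y * n⁻¹ = y := by
        rw [mem_centralizer_iff.1 (hgc hy) n hn, mul_inv_cancel_right]
      rwa [this]
    · intro hy
      have h2 := mem_centralizer_iff.1 (hgc hy) n hn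
      have : n * y * n⁻¹ = y := by
        have h3 : n * (n * y * n⁻¹) * n⁻¹ = n * y * n⁻¹ := by
          rw [h2, mul_inv_cancel_right]
        have h4 := mul_right_cancel (mul_left_cancel (by simpa only [mul_assoc] using h3 :
          n * ((n * y * n⁻¹) * n⁻¹) = n * (y * n⁻¹)))
        exact h4
      rwa [this] at hy
  have hW2 : IsPGroup 2 W := by
    have hg2 : IsPGroup 2 (zpowers g) := by
      rw [IsPGroup.iff_card]
      have h2 : orderOf g ∣ 2 ^ k := orderOf_dvd_of_pow_eq_one hk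
      obtain ⟨j, -, hj⟩ := (Nat.dvd_prime_pow Nat.prime_two).1 h2
      exact ⟨j, by rw [Nat.card_zpowers, hj]⟩
    exact IsPGroup.to_sup_of_normal_right' K.N_two hg2 hnorm
  have hWk : (W.subgroupOf A) ≤ ψ.ker := by
    have h2 : W ≤ (ψ.ker).map A.subtype := by
      refine sup_le (fun n hn => ?_) ?_
      · exact ⟨⟨n, K.N_A hn⟩, K.N_ker n (K.N_A hn) hn, rfl⟩
      · rw [zpowers_le]
        exact ⟨⟨g, K.comm_mem h⟩, h1, rfl⟩
    intro w hw
    obtain ⟨w', hw', hww⟩ := h2 (mem_subgroupOf.1 hw)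
    have : w' = w := Subtype.ext hww
    exact this ▸ hw'
  have hcard : Nat.card W ∣ 64 := by
    have h2 := K.two_le (W.subgroupOf A) (hW2.of_equiv (subgroupOfEquivOfLe hWA).symm) hWk
    rwa [Nat.card_congr (subgroupOfEquivOfLe hWA).toEquiv] at h2
  have hNW : N0 = W := by
    refine Subgroup.eq_of_le_of_card_ge le_sup_left ?_
    rw [K.card]
    exact Nat.le_of_dvd (by norm_num) hcard
  have hgN : g ∈ N0 := by
    rw [hNW]
    exact (le_sup_right : zpowers g ≤ W) (mem_zpowers g)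
  exact K.cen g hgN h

/-- **T4E** : a 2-element of `C_G(N0) ∩ C_G(E)` lies in `⟨s⟩`. -/
theorem T4E [Finite G] (K : Kit N0 A E z s x r ψ) {g : G} (h : ∀ n ∈ N0, g * n = n * g) {k : ℕ} (hk : g ^ 2 ^ k = 1)
    (hE : ∀ e ∈ E, g * e = e * g) : g ∈ zpowers s :=
  K.T4 h hk (K.psi_one (g := ⟨g, K.comm_mem h⟩) hE)

/-- perfect subgroups of the kernel are trivial -/
theorem perfect_ker (K : Kit N0 A E z s x r ψ) (R : Subgroup G) (hR : ⁅R, R⁆ = R) (hRA : R ≤ A)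
    (h : ∀ g (hg : g ∈ R), ψ ⟨g, hRA hg⟩ = 1) : R = ⊥ := by
  have h1 : R ≤ (ψ.ker).map A.subtype := fun g hg => ⟨⟨g, hRA hg⟩, h g hg, rfl⟩
  have h2 : Group.IsSolvable ((ψ.ker).map A.subtype) := by
    have := K.ker_solv
    exact Group.isSolvable_of_isSolvable_injective
      (f := ((ψ.ker).equivMapOfInjective A.subtype A.subtype_injective).symm.toMonoidHom)
      ((ψ.ker).equivMapOfInjective A.subtype A.subtype_injective).symm.injective
  have h3 : Group.IsSolvable R := Group.isSolvable_of_isSolvable_injective (Subgroup.inclusion_injective h1)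
  by_contra hne
  have h4 : Nontrivial R := (Subgroup.nontrivial_iff_ne_bot R).2 hne
  have h5 : commutator ↥R < ⊤ := Group.IsSolvable.commutator_lt_top_of_nontrivial _
  apply h5.ne
  have h6 : (commutator ↥R).map R.subtype = R := by
    rw [commutator_def, Subgroup.map_commutator]
    simp only [← MonoidHom.range_eq_map, Subgroup.range_subtype]
    exact hR
  refine Subgroup.map_injective R.subtype_injective ?_
  rw [h6, ← MonoidHom.range_eq_map, Subgroup.range_subtype]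

/-- **T3** : `R₁`, `R₂` commuting perfect subgroups of `A`, `E ≤ R₁ R₂`: one of them is trivial. -/
theorem T3 (K : Kit N0 A E z s x r ψ) (R₁ R₂ : Subgroup G) (h₁ : ⁅R₁, R₁⁆ = R₁) (h₂ : ⁅R₂, R₂⁆ = R₂)
    (hA₁ : R₁ ≤ A) (hA₂ : R₂ ≤ A) (hc : ∀ a ∈ R₁, ∀ b ∈ R₂, a * b = b * a)
    (hE : ∀ e ∈ E, ∃ a ∈ R₁, ∃ b ∈ R₂, e = a * b) : R₁ = ⊥ ∨ R₂ = ⊥ := by
  by_contra hcon
  push Not at hcon
  obtain ⟨hn₁, hn₂⟩ := hcon
  -- an element of `R₁` which is not in the kernel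
  have e₁ : ∃ a, ∃ ha : a ∈ R₁, ψ ⟨a, hA₁ ha⟩ ≠ 1 := by
    by_contra hcon
    push Not at hcon
    exact hn₁ (K.perfect_ker R₁ h₁ hA₁ hcon)
  have e₂ : ∃ a, ∃ ha : a ∈ R₂, ψ ⟨a, hA₂ ha⟩ ≠ 1 := by
    by_contra hcon
    push Not at hcon
    exact hn₂ (K.perfect_ker R₂ h₂ hA₂ hcon)
  -- the images are normal in `A₆` and commute
  let S₁ : Subgroup (Equiv.Perm (Fin 6)) := (R₁.subgroupOf A).map ψ
  let S₂ : Subgroup (Equiv.Perm (Fin 6)) := (R₂.subgroupOf A).map ψ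
  have hS : ∀ a ∈ S₁, ∀ b ∈ S₂, a * b = b * a := by
    rintro _ ⟨a, ha, rfl⟩ _ ⟨b, hb, rfl⟩
    rw [← map_mul, ← map_mul]
    exact congrArg ψ (Subtype.ext (hc a (mem_subgroupOf.1 ha) b (mem_subgroupOf.1 hb)))
  have hgen : ∀ π : Equiv.Perm (Fin 6), Equiv.Perm.sign π = 1 → ∃ a ∈ S₁, ∃ b ∈ S₂, π = a * b := by
    intro π hπ
    obtain ⟨e, he, heπ⟩ := K.E_img π hπ
    obtain ⟨a, ha, b, hb, hab⟩ := hE e he
    refine ⟨ψ ⟨a, hA₁ ha⟩, ⟨⟨a, hA₁ ha⟩, mem_subgroupOf.2 ha, rfl⟩, ψ ⟨b, hA₂ hb⟩,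
      ⟨⟨b, hA₂ hb⟩, mem_subgroupOf.2 hb, rfl⟩, ?_⟩
    rw [← heπ (K.E_A he), ← map_mul]
    exact congrArg ψ (Subtype.ext hab)
  -- an element of both is central, so trivial
  have hint : ∀ a ∈ S₁, (∀ b ∈ S₁, a * b = b * a) → a = 1 := by
    intro a ha hab
    refine eq_one_of_comm a ?_ ?_
    · obtain ⟨u, hu, v, hv, huv⟩ := hgen c3 sign_c3
      rw [huv, ← mul_assoc, hab u hu, mul_assoc, hS a ha v hv, mul_assoc]
    · obtain ⟨u, hu, v, hv, huv⟩ := hgen e5 sign_e5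
      rw [huv, ← mul_assoc, hab u hu, mul_assoc, hS a ha v hv, mul_assoc]
  -- `S₁` is normal in `A₆`
  have hnorm : ∀ π : Equiv.Perm (Fin 6), Equiv.Perm.sign π = 1 → ∀ a ∈ S₁, π * a * π⁻¹ ∈ S₁ := by
    intro π hπ a ha
    obtain ⟨u, hu, v, hv, rfl⟩ := hgen π hπ
    have : u * v * a * (u * v)⁻¹ = u * a * u⁻¹ := by
      rw [mul_assoc u v a, ← hS a ha v hv]
      group
    rw [this]
    exact mul_mem (mul_mem hu ha) (inv_mem hu)
  -- simplicity of `A₆`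
  have hsimple : IsSimpleGroup (alternatingGroup (Fin 6)) := alternatingGroup.isSimpleGroup (by simp)
  let T : Subgroup (alternatingGroup (Fin 6)) := S₁.subgroupOf (alternatingGroup (Fin 6))
  have hT : T.Normal := by
    refine ⟨fun a ha g => ?_⟩
    rw [mem_subgroupOf] at ha ⊢
    exact hnorm g (mem_alternatingGroup.1 g.2) a ha
  rcases hsimple.eq_bot_or_eq_top_of_normal T hT with h | h
  · -- `S₁ ∩ A₆` trivial
    obtain ⟨a, ha, hψ⟩ := e₁
    -- elements of `R₁` are products of commutators, so even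
    have hev : ∀ g (hg : g ∈ R₁), Equiv.Perm.sign (ψ ⟨g, hA₁ hg⟩) = 1 := by
      have hle : R₁ ≤ ((Equiv.Perm.sign.comp ψ).ker).map A.subtype := by
        rw [← h₁, commutator_le]
        intro u hu v hv
        refine ⟨⁅(⟨u, hA₁ hu⟩ : ↥A), (⟨v, hA₁ hv⟩ : ↥A)⁆, ?_, rfl⟩
        rw [SetLike.mem_coe, MonoidHom.mem_ker, map_commutatorElement]
        rw [commutatorElement_eq_one_iff_mul_comm]
        exact mul_comm _ _
      intro g hg
      obtain ⟨w, hw, hwg⟩ := hle hg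
      have : w = ⟨g, hA₁ hg⟩ := Subtype.ext hwg
      rw [← this]
      exact hw
    apply hψ
    have h1 : (⟨ψ ⟨a, hA₁ ha⟩, mem_alternatingGroup.2 (hev a ha)⟩ : alternatingGroup (Fin 6)) ∈ T := by
      rw [mem_subgroupOf]
      exact ⟨⟨a, hA₁ ha⟩, mem_subgroupOf.2 ha, rfl⟩
    rw [h, Subgroup.mem_bot] at h1
    exact congrArg Subtype.val h1
  · -- `A₆ ≤ S₁`: then `S₂` centralises `A₆`
    obtain ⟨b, hb, hψ⟩ := e₂
    apply hψ
    have hmem : ∀ π : Equiv.Perm (Fin 6), Equiv.Perm.sign π = 1 → π ∈ S₁ := by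
      intro π hπ
      have h1 : (⟨π, mem_alternatingGroup.2 hπ⟩ : alternatingGroup (Fin 6)) ∈ T := by rw [h]; trivial
      exact mem_subgroupOf.1 h1
    have hb2 : ψ ⟨b, hA₂ hb⟩ ∈ S₂ := ⟨⟨b, hA₂ hb⟩, mem_subgroupOf.2 hb, rfl⟩
    exact eq_one_of_comm _ (hS _ (hmem _ sign_c3) _ hb2).symm (hS _ (hmem _ sign_e5) _ hb2).symm

/-- **T7** : no even element of `A` conjugates `x` to `r x r⁻¹`. -/
theorem T7 (K : Kit N0 A E z s x r ψ) {g : G} (hg : g ∈ A) (hs : g * s = s * g) : g * x * g⁻¹ ≠ r * x * r⁻¹ := by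
  intro h
  have hx : x ∈ A := K.E_A K.xE
  have hrx : r * x * r⁻¹ ∈ A := K.E_A (((mem_normalizer_iff.1 K.rE) x).1 K.xE)
  have h1 : ψ ⟨g, hg⟩ * c5 = c5 ^ 2 * ψ ⟨g, hg⟩ := by
    have h2 : (⟨g, hg⟩ : ↥A) * ⟨x, hx⟩ = (⟨r * x * r⁻¹, hrx⟩ : ↥A) * ⟨g, hg⟩ := by
      refine Subtype.ext ?_
      change g * x = r * x * r⁻¹ * g
      rw [← h]; group
    rw [← K.psi_x hx, ← map_mul, h2, map_mul, K.psi_r hrx, K.psi_x hx]
  have h2 := odd_of_conj _ h1
  rw [(K.even ⟨g, hg⟩).2 hs] at h2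
  exact absurd h2 (by decide)

end Kit

end Cfsg.Agent.H415.C3
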