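import Cfsg.Agent.H415.C3.LKit
import Cfsg.Agent.H415.C3.KitOf

/-!
# S1920, case B: the lifted kit exists (helper415)
-/

set_option autoImplicit false

open Subgroup
open scoped commutatorElement

namespace Cfsg.Agent.H415.C3

section Grp

variable {X : Type*} [Group X]

/-- elements commuting with `n` up to central elements: their commutators commute with `n` -/
theorem comm_of_central {a b n c d : X} (hc : ∀ h, c * h = h * c) (hd : ∀ h, d * h = h * d) (ha : a * n = c * (n * a))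
    (hb : b * n = d * (n * b)) : ⁅a, b⁆ * n = n * ⁅a, b⁆ := by
  have ha' : a⁻¹ * n = c⁻¹ * (n * a⁻¹) := by
    have h1 : n * a = c⁻¹ * (a * n) := by rw [ha, inv_mul_cancel_left]
    have hci : c⁻¹ * a⁻¹ = a⁻¹ * c⁻¹ := by
      rw [← mul_inv_rev, ← mul_inv_rev, hc]
    rw [inv_mul_eq_iff_eq_mul, ← mul_assoc, ← mul_assoc, (show a * c⁻¹ = c⁻¹ * a by
      rw [eq_inv_mul_iff_mul_eq, ← mul_assoc, hc, mul_inv_cancel_right]), mul_assoc c⁻¹ a n, ha, inv_mul_cancel_left,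
      mul_inv_cancel_right]
  have hb' : b⁻¹ * n = d⁻¹ * (n * b⁻¹) := by
    rw [inv_mul_eq_iff_eq_mul, ← mul_assoc, ← mul_assoc, (show b * d⁻¹ = d⁻¹ * b by
      rw [eq_inv_mul_iff_mul_eq, ← mul_assoc, hd, mul_inv_cancel_right]), mul_assoc d⁻¹ b n, hb, inv_mul_cancel_left,
      mul_inv_cancel_right]
  have hci : ∀ h, c⁻¹ * h = h * c⁻¹ := fun h => by
    rw [inv_mul_eq_iff_eq_mul, ← mul_assoc, hc, mul_inv_cancel_right]
  have hdi : ∀ h, d⁻¹ * h = h * d⁻¹ := fun h => by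
    rw [inv_mul_eq_iff_eq_mul, ← mul_assoc, hd, mul_inv_cancel_right]
  calc ⁅a, b⁆ * n = a * b * a⁻¹ * (b⁻¹ * n) := by rw [commutatorElement_def]; group
    _ = a * b * a⁻¹ * (d⁻¹ * (n * b⁻¹)) := by rw [hb']
    _ = d⁻¹ * (a * b * (a⁻¹ * n) * b⁻¹) := by rw [← mul_assoc _ d⁻¹, ← hdi]; group
    _ = d⁻¹ * (a * b * (c⁻¹ * (n * a⁻¹)) * b⁻¹) := by rw [ha']
    _ = d⁻¹ * (c⁻¹ * (a * (b * n) * a⁻¹ * b⁻¹)) := by rw [← mul_assoc (a * b) c⁻¹, ← hci]; group
    _ = d⁻¹ * (c⁻¹ * (a * (d * (n * b)) * a⁻¹ * b⁻¹)) := by rw [hb]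
    _ = d⁻¹ * (c⁻¹ * (d * ((a * n) * b * a⁻¹ * b⁻¹))) := by rw [← mul_assoc a d, ← hd a]; group
    _ = d⁻¹ * (c⁻¹ * (d * ((c * (n * a)) * b * a⁻¹ * b⁻¹))) := by rw [ha]
    _ = d⁻¹ * (c⁻¹ * (d * c * (n * ⁅a, b⁆))) := by rw [commutatorElement_def]; group
    _ = d⁻¹ * (c⁻¹ * (c * d * (n * ⁅a, b⁆))) := by rw [hc d]
    _ = n * ⁅a, b⁆ := by group

end Grp

variable {G : Type*} [Group G] {K : Type*} [Field K] {V : Type*} [AddCommGroup V] [Module K V]

theorem IsSc.central {g : V ≃ₗ[K] V} (hg : IsSc g) (h : V ≃ₗ[K] V) : g * h = h * g := by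
  obtain ⟨c, hc⟩ := hg
  ext v
  change g (h v) = h (g v)
  rw [hc, hc, map_smul]

theorem IsSc.mul {g h : V ≃ₗ[K] V} (hg : IsSc g) (hh : IsSc h) : IsSc (g * h) := by
  obtain ⟨c, hc⟩ := hg
  obtain ⟨d, hd⟩ := hh
  refine ⟨c * d, fun v => ?_⟩
  change g (h v) = _
  rw [hd, hc, smul_smul]

/-- a nonzero factor -/
theorem exists_ne_of_smul {g h : V ≃ₗ[K] V} {c : K} (hc : ∀ v, g v = c • h v) : ∃ d : K, d ≠ 0 ∧ ∀ v, g v = d • h v := by
  by_cases h0 : c = 0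
  · refine ⟨1, one_ne_zero, fun v => ?_⟩
    have h1 : ∀ w, g w = 0 := fun w => by rw [hc, h0, zero_smul]
    have h2 : ∀ w : V, w = 0 := fun w => g.injective (by rw [h1 w, map_zero])
    rw [h2 (g v), h2 ((1 : K) • h v)]
  · exact ⟨c, h0, hc⟩

/-- `g h⁻¹` is a scalar -/
theorem smul_of_isSc {g h : V ≃ₗ[K] V} (hs : IsSc (g * h⁻¹)) : ∃ c : K, c ≠ 0 ∧ ∀ v, g v = c • h v := by
  obtain ⟨c, hc⟩ := hs
  refine exists_ne_of_smul (c := c) fun v => ?_
  have h1 := hc (h v)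
  have h2 : (g * h⁻¹) (h v) = g v := by
    change g (h.symm (h v)) = g v
    rw [LinearEquiv.symm_apply_apply]
  rwa [h2] at h1

theorem isSc_of_smul {g h : V ≃ₗ[K] V} {c : K} (hc : ∀ v, g v = c • h v) : IsSc (g * h⁻¹) := by
  refine ⟨c, fun v => ?_⟩
  change g (h.symm v) = c • v
  rw [hc, LinearEquiv.apply_symm_apply]

theorem Lin.eq_iff {Gh : Subgroup (V ≃ₗ[K] V)} {π : ↥Gh →* G} (L : Lin Gh π) (g h : ↥Gh) :
    π g = π h ↔ IsSc ((g : V ≃ₗ[K] V) * (h : V ≃ₗ[K] V)⁻¹) := by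
  rw [← mul_inv_eq_one, ← map_inv, ← map_mul, L.ker]
  rfl

theorem Lin.smul_of_eq {Gh : Subgroup (V ≃ₗ[K] V)} {π : ↥Gh →* G} (L : Lin Gh π) {g h : ↥Gh} (hgh : π g = π h) :
    ∃ c : K, c ≠ 0 ∧ ∀ v, (g : V ≃ₗ[K] V) v = c • (h : V ≃ₗ[K] V) v := smul_of_isSc ((L.eq_iff g h).1 hgh)

theorem Lin.eq_of_smul {Gh : Subgroup (V ≃ₗ[K] V)} {π : ↥Gh →* G} (L : Lin Gh π) {g h : ↥Gh} {c : K}
    (hc : ∀ v, (g : V ≃ₗ[K] V) v = c • (h : V ≃ₗ[K] V) v) : π g = π h := (L.eq_iff g h).2 (isSc_of_smul hc)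

/-- `a`, `b` in `N0` with commutator `z` -/
theorem Kit.exists_ab [Finite G] {N0 A E : Subgroup G} {z s x r : G} {ψ : ↥A →* Equiv.Perm (Fin 6)}
    (K : Kit N0 A E z s x r ψ) : ∃ a ∈ N0, ∃ b ∈ N0, a * b = z * (b * a) := by
  by_contra hcon
  push Not at hcon
  have h1 : N0 ≤ zpowers s := by
    intro n hn
    refine K.cen n hn fun m hm => ?_
    rcases K.comm n hn m hm with h | h
    · exact h
    · exact absurd h (hcon n hn m hm)
  have h2 := Subgroup.card_dvd_of_le h1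
  rw [K.card, Nat.card_zpowers] at h2
  have h3 : orderOf s ∣ 4 := orderOf_dvd_of_pow_eq_one K.s_four
  have h4 := h2.trans h3
  exact absurd (Nat.le_of_dvd (by norm_num) h4) (by norm_num)

/-- **The lifted kit exists.** -/
theorem exists_lkit [Finite G] {Gh : Subgroup (V ≃ₗ[K] V)} [Finite ↥Gh] {π : ↥Gh →* G} (L : Lin Gh π) (h2 : (2 : K) ≠ 0)
    {N0 A E : Subgroup G} {z s x r : G} {ψ : ↥A →* Equiv.Perm (Fin 6)} (T : Kit N0 A E z s x r ψ) :
    ∃ (Nh Eh : Subgroup (V ≃ₗ[K] V)) (zh sh xh rh : V ≃ₗ[K] V), LKit Gh π N0 A E z s x r Nh Eh zh sh xh rh := by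
  have hne : (-1 : K) ≠ 1 := by
    intro h
    apply h2
    have : (1 : K) + 1 = 0 := by
      nth_rewrite 1 [← h]; ring
    rw [← this]; norm_num
  -- `V` is nontrivial
  have hV : ∃ v : V, v ≠ 0 := by
    by_contra hcon
    push Not at hcon
    obtain ⟨g, hg⟩ := L.surj z
    have : π g = 1 := (L.ker g).2 ⟨1, fun v => by rw [hcon ((g : V ≃ₗ[K] V) v), hcon ((1 : K) • v)]⟩
    exact T.z_ne (hg ▸ this)
  let Nh : Subgroup (V ≃ₗ[K] V) := (N0.comap π).map Gh.subtype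
  have memN : ∀ g, g ∈ Nh ↔ ∃ h : g ∈ Gh, π ⟨g, h⟩ ∈ N0 := by
    intro g
    constructor
    · rintro ⟨w, hw, rfl⟩
      exact ⟨w.2, hw⟩
    · rintro ⟨h, hw⟩
      exact ⟨⟨g, h⟩, hw, rfl⟩
  let E1 : Subgroup (V ≃ₗ[K] V) := (E.comap π).map Gh.subtype
  have memE : ∀ g, g ∈ E1 ↔ ∃ h : g ∈ Gh, π ⟨g, h⟩ ∈ E := by
    intro g
    constructor
    · rintro ⟨w, hw, rfl⟩
      exact ⟨w.2, hw⟩
    · rintro ⟨h, hw⟩
      exact ⟨⟨g, h⟩, hw, rfl⟩
  have hE1 : E1 ≤ Gh := fun g hg => ((memE g).1 hg).1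
  have : Finite E1 := Finite.of_injective _ (inclusion_injective hE1)
  -- stable term of the derived series
  obtain ⟨k, hk⟩ : ∃ k, ⁅der E1 k, der E1 k⁆ = der E1 k := by
    by_contra hcon
    push Not at hcon
    have h1 : ∀ k, Nat.card (der E1 k) + k ≤ Nat.card E1 := by
      intro k
      induction k with
      | zero => exact le_rfl
      | succ k ih =>
        have : Finite (der E1 k) := Finite.of_injective _ (inclusion_injective (der_le E1 k))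
        have h2 : der E1 (k + 1) < der E1 k := lt_of_le_of_ne (der_succ_le E1 k) (hcon k)
        have h3 : Nat.card (der E1 (k + 1)) < Nat.card (der E1 k) := by
          refine lt_of_le_of_ne (Subgroup.card_le_of_le h2.le) fun h => h2.ne ?_
          exact Subgroup.eq_of_le_of_card_ge h2.le h.ge
        omega
    have h4 := h1 (Nat.card E1 + 1)
    omega
  have hsurj : ∀ k, ∀ e ∈ E, ∃ g ∈ der E1 k, ∀ h : g ∈ Gh, π ⟨g, h⟩ = e := by
    intro k
    induction k with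
    | zero =>
      intro e he
      obtain ⟨g, hg⟩ := L.surj e
      exact ⟨g, (memE _).2 ⟨g.2, by rw [← hg] at he; exact he⟩, fun h => hg⟩
    | succ k ih =>
      have h1 : E ≤ ((der E1 (k + 1)).subgroupOf Gh).map π := by
        have h3 : ⁅(der E1 k).subgroupOf Gh, (der E1 k).subgroupOf Gh⁆ ≤ (der E1 (k + 1)).subgroupOf Gh := by
          rw [commutator_le]
          intro a ha b hb
          rw [mem_subgroupOf] at ha hb ⊢
          exact commutator_mem_commutator ha hb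
        have h4 : E ≤ ((der E1 k).subgroupOf Gh).map π := by
          intro e he
          obtain ⟨g, hg, hg'⟩ := ih e he
          have h5 : g ∈ Gh := hE1 (der_le E1 k hg)
          exact ⟨⟨g, h5⟩, mem_subgroupOf.2 hg, hg' h5⟩
        refine le_trans ?_ (map_mono h3)
        rw [map_commutator]
        conv_lhs => rw [← T.E_perf]
        exact commutator_mono h4 h4
      intro e he
      obtain ⟨g, hg, hg'⟩ := h1 he
      exact ⟨g, mem_subgroupOf.1 hg, fun h => hg'⟩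
  have hEle : der E1 k ≤ Gh := (der_le E1 k).trans hE1
  -- `Eh` commutes with `Nh`
  have hEN : ∀ e ∈ der E1 k, ∀ n ∈ Nh, e * n = n * e := by
    intro e he n hn
    obtain ⟨hnG, hn0⟩ := (memN n).1 hn
    have hle : der E1 k ≤ centralizer {n} := by
      rw [← hk, commutator_le]
      intro a ha b hb
      have key : ∀ a ∈ der E1 k, ∃ c : V ≃ₗ[K] V, (∀ h, c * h = h * c) ∧ a * n = c * (n * a) := by
        intro a ha
        have haG := hEle ha
        have h1 : π ⟨a, haG⟩ ∈ E := ((memE a).1 (der_le E1 k ha)).2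
        have h3 : IsSc (a * n * (n * a)⁻¹) := by
          refine (L.eq_iff (⟨a, haG⟩ * ⟨n, hnG⟩) (⟨n, hnG⟩ * ⟨a, haG⟩)).1 ?_
          rw [map_mul, map_mul]
          exact T.E_comm _ h1 _ hn0
        exact ⟨_, h3.central, by rw [inv_mul_cancel_right]⟩
      obtain ⟨c, hc, hc'⟩ := key a ha
      obtain ⟨d, hd, hd'⟩ := key b hb
      rw [mem_centralizer_singleton_iff]
      exact comm_of_central hc hd hc' hd'
    exact mem_centralizer_singleton_iff.1 (hle he)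
  -- `zh`
  obtain ⟨a, ha, b, hb, hab⟩ := T.exists_ab
  obtain ⟨a', ha'⟩ := L.surj a
  obtain ⟨b', hb'⟩ := L.surj b
  obtain ⟨zz, hzz⟩ : ∃ zz : ↥Gh, zz = a' * b' * a'⁻¹ * b'⁻¹ := ⟨_, rfl⟩
  have hπz : π zz = z := by
    rw [hzz, map_mul, map_mul, map_mul, map_inv, map_inv, ha', hb', hab]
    group
  obtain ⟨s', hs'⟩ := L.surj s
  -- squares
  have hsq : ∀ n ∈ Nh, IsSc (n * n) ∨ IsSc (n * n * (zz : V ≃ₗ[K] V)⁻¹) := by
    intro n hn
    obtain ⟨hnG, hn0⟩ := (memN n).1 hn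
    rcases T.sq _ hn0 with h | h
    · left
      exact (L.ker (⟨n, hnG⟩ * ⟨n, hnG⟩)).1 (by rw [map_mul]; exact h)
    · right
      exact (L.eq_iff (⟨n, hnG⟩ * ⟨n, hnG⟩) zz).1 (by rw [map_mul, hπz]; exact h)
  have hz_cen : ∀ n ∈ N0, z * n = n * z := by
    intro n hn
    rw [← T.s_sq, mul_assoc, ← T.s_cen n hn, ← mul_assoc, ← T.s_cen n hn, mul_assoc]
  -- `z` commutes with `n` up to `±1`
  have hzn : ∀ n ∈ Nh, ∃ c : K, (∀ v, ((zz : V ≃ₗ[K] V) * n) v = c • (n * (zz : V ≃ₗ[K] V)) v) ∧ (c = 1 ∨ c = -1) := by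
    intro n hn
    obtain ⟨hnG, hn0⟩ := (memN n).1 hn
    obtain ⟨c, hc0, hc⟩ := L.smul_of_eq (g := zz * ⟨n, hnG⟩) (h := ⟨n, hnG⟩ * zz) (by
      rw [map_mul, map_mul, hπz]
      exact hz_cen _ hn0)
    refine ⟨c, hc, ?_⟩
    obtain ⟨d, hd0, hd⟩ := L.smul_of_eq (g := zz * zz) (h := 1) (by
      rw [map_mul, hπz, T.z_sq, map_one])
    have hc' : ∀ v, (zz : V ≃ₗ[K] V) (n v) = c • n ((zz : V ≃ₗ[K] V) v) := hc
    have hd' : ∀ v, (zz : V ≃ₗ[K] V) ((zz : V ≃ₗ[K] V) v) = d • v := hd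
    obtain ⟨v, hv⟩ := hV
    have h3 : d • n v = (c * c * d) • n v := by
      calc d • n v = (zz : V ≃ₗ[K] V) ((zz : V ≃ₗ[K] V) (n v)) := (hd' _).symm
        _ = c • c • n ((zz : V ≃ₗ[K] V) ((zz : V ≃ₗ[K] V) v)) := by
          rw [hc', map_smul, hc']
        _ = _ := by rw [hd', map_smul, smul_smul, smul_smul]
    have h4 : n v ≠ 0 := fun h => hv (n.injective (by rw [h, map_zero]))
    have h5 : d = c * c * d := smul_left_injective K h4 h3
    have h6 : c * c = 1 := by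
      have : (c * c - 1) * d = 0 := by linear_combination -h5
      rcases mul_eq_zero.1 this with h | h
      · linear_combination h
      · exact absurd h hd0
    exact mul_self_eq_one_iff.1 h6
  have hz_comm : ∀ n ∈ Nh, (zz : V ≃ₗ[K] V) * n = n * (zz : V ≃ₗ[K] V) := by
    -- if `n² = c zh` then `n` commutes with `zh`
    have key : ∀ n ∈ Nh, IsSc (n * n * (zz : V ≃ₗ[K] V)⁻¹) → (zz : V ≃ₗ[K] V) * n = n * (zz : V ≃ₗ[K] V) := by
      intro n hn h
      have h3 := h.central n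
      have h4 : n * n = (n * n * (zz : V ≃ₗ[K] V)⁻¹) * zz := by group
      have h5 : (n * n * (zz : V ≃ₗ[K] V)⁻¹) * (zz * n) = (n * n * (zz : V ≃ₗ[K] V)⁻¹) * (n * zz) := by
        calc (n * n * (zz : V ≃ₗ[K] V)⁻¹) * (zz * n) = n * (n * n) := by group
          _ = n * ((n * n * (zz : V ≃ₗ[K] V)⁻¹) * zz) := by rw [← h4]
          _ = (n * (n * n * (zz : V ≃ₗ[K] V)⁻¹)) * zz := by group
          _ = ((n * n * (zz : V ≃ₗ[K] V)⁻¹) * n) * zz := by rw [h3]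
          _ = _ := by group
      exact mul_left_cancel h5
    intro n hn
    obtain ⟨c, hc, hc1⟩ := hzn n hn
    rcases hc1 with rfl | rfl
    · ext v
      rw [hc, one_smul]
    · exfalso
      -- `n² = 1` in `G` for every such `n`
      have key2 : ∀ n (hn : n ∈ Nh), (∀ v, ((zz : V ≃ₗ[K] V) * n) v = (-1 : K) • (n * (zz : V ≃ₗ[K] V)) v) →
          ∃ h : n ∈ Gh, π ⟨n, h⟩ * π ⟨n, h⟩ = 1 := by
        intro n hn hc
        obtain ⟨hnG, hn0⟩ := (memN n).1 hn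
        refine ⟨hnG, ?_⟩
        rcases hsq n hn with h | h
        · exact ((map_mul π _ _).symm.trans ((L.ker (⟨n, hnG⟩ * ⟨n, hnG⟩)).2 h))
        · exfalso
          have h3 := key n hn h
          obtain ⟨v, hv⟩ := hV
          have h4 := hc v
          rw [h3] at h4
          have h5 : (n * (zz : V ≃ₗ[K] V)) v ≠ 0 := fun h => hv ((n * (zz : V ≃ₗ[K] V)).injective (by rw [h, map_zero]))
          have h6 : ((1 : K)) • (n * (zz : V ≃ₗ[K] V)) v = (-1 : K) • (n * (zz : V ≃ₗ[K] V)) v := by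
            rw [one_smul]; exact h4
          exact hne (smul_left_injective K h5 h6).symm
      obtain ⟨hnG, hn1⟩ := key2 n hn hc
      have hn0 := ((memN n).1 hn).2
      have hsN : (s' : V ≃ₗ[K] V) ∈ Nh := (memN _).2 ⟨s'.2, by
        have : π s' ∈ N0 := hs' ▸ T.sN
        exact this⟩
      have hzs : (zz : V ≃ₗ[K] V) * s' = s' * (zz : V ≃ₗ[K] V) := by
        refine key _ hsN ?_
        refine (L.eq_iff (s' * s') zz).1 ?_
        rw [map_mul, hs', hπz, T.s_sq]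
      have hc2 : ∀ v, ((zz : V ≃ₗ[K] V) * ((s' : V ≃ₗ[K] V) * n)) v =
          (-1 : K) • (((s' : V ≃ₗ[K] V) * n) * (zz : V ≃ₗ[K] V)) v := by
        intro v
        rw [← mul_assoc, hzs, mul_assoc, mul_assoc]
        change (s' : V ≃ₗ[K] V) (((zz : V ≃ₗ[K] V) * n) v) = (-1 : K) • (s' : V ≃ₗ[K] V) ((n * (zz : V ≃ₗ[K] V)) v)
        rw [hc, map_smul]
      obtain ⟨hG2, hn2⟩ := key2 _ (mul_mem hsN hn) hc2
      have h6 : π ⟨(s' : V ≃ₗ[K] V) * n, hG2⟩ = s * π ⟨n, hnG⟩ := by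
        rw [← hs', ← map_mul]
        rfl
      rw [h6] at hn2
      have h7 : s * π ⟨n, hnG⟩ * (s * π ⟨n, hnG⟩) = s * s * (π ⟨n, hnG⟩ * π ⟨n, hnG⟩) := by
        have := T.s_cen _ hn0
        calc s * π ⟨n, hnG⟩ * (s * π ⟨n, hnG⟩) = s * (π ⟨n, hnG⟩ * s) * π ⟨n, hnG⟩ := by group
          _ = s * (s * π ⟨n, hnG⟩) * π ⟨n, hnG⟩ := by rw [this]
          _ = _ := by group
      rw [h7, hn1, mul_one, T.s_sq] at hn2
      exact T.z_ne hn2
  have haN : (a' : V ≃ₗ[K] V) ∈ Nh := (memN _).2 ⟨a'.2, by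
    have : π a' ∈ N0 := ha' ▸ ha
    exact this⟩
  have hbN : (b' : V ≃ₗ[K] V) ∈ Nh := (memN _).2 ⟨b'.2, by
    have : π b' ∈ N0 := hb' ▸ hb
    exact this⟩
  have hsN : (s' : V ≃ₗ[K] V) ∈ Nh := (memN _).2 ⟨s'.2, by
    have : π s' ∈ N0 := hs' ▸ T.sN
    exact this⟩
  have hzN : (zz : V ≃ₗ[K] V) ∈ Nh := by
    rw [hzz]
    exact mul_mem (mul_mem (mul_mem haN hbN) (inv_mem haN)) (inv_mem hbN)
  -- squares commute with `Nh`
  have hsqc : ∀ n ∈ Nh, ∀ m ∈ Nh, (n * n) * m = m * (n * n) := by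
    intro n hn m hm
    rcases hsq n hn with h | h
    · exact h.central m
    · have h4 : n * n = (n * n * (zz : V ≃ₗ[K] V)⁻¹) * zz := by group
      rw [h4]
      generalize n * n * (zz : V ≃ₗ[K] V)⁻¹ = c at h
      rw [mul_assoc, hz_comm m hm, ← mul_assoc, h.central m, mul_assoc]
  have hz_sq : (zz : V ≃ₗ[K] V) * zz = 1 := by
    have h3 : (a' : V ≃ₗ[K] V) * b' = zz * (b' * a') := by
      rw [hzz]
      change (a' : V ≃ₗ[K] V) * b' = ((a' : V ≃ₗ[K] V) * (b' : V ≃ₗ[K] V) * (a' : V ≃ₗ[K] V)⁻¹ * (b' : V ≃ₗ[K] V)⁻¹) *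
        ((b' : V ≃ₗ[K] V) * (a' : V ≃ₗ[K] V))
      group
    have h4 := hsqc _ haN _ hbN
    have h5 : (a' : V ≃ₗ[K] V) * a' * b' = zz * zz * (b' * (a' * a')) := by
      calc (a' : V ≃ₗ[K] V) * a' * b' = a' * (a' * b') := by group
        _ = a' * (zz * (b' * a')) := by rw [h3]
        _ = (a' * zz) * (b' * a') := by group
        _ = (zz * a') * (b' * a') := by rw [hz_comm _ haN]
        _ = zz * (a' * b') * a' := by group
        _ = zz * (zz * (b' * a')) * a' := by rw [h3]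
        _ = _ := by group
    rw [h4] at h5
    have h6 : (1 : V ≃ₗ[K] V) * (b' * (a' * a')) = zz * zz * (b' * (a' * a')) := by rw [one_mul]; exact h5
    exact (mul_right_cancel h6).symm
  -- commutators
  have hcm : ∀ n ∈ Nh, ∀ m ∈ Nh, (n * m * (m * n)⁻¹) * (n * m * (m * n)⁻¹) = 1 ∧
      (IsSc (n * m * (m * n)⁻¹) ∨ IsSc (n * m * (m * n)⁻¹ * (zz : V ≃ₗ[K] V)⁻¹)) := by
    intro n hn m hm
    obtain ⟨hnG, hn0⟩ := (memN n).1 hn
    obtain ⟨hmG, hm0⟩ := (memN m).1 hm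
    have hor : IsSc (n * m * (m * n)⁻¹) ∨ IsSc (n * m * (m * n)⁻¹ * (zz : V ≃ₗ[K] V)⁻¹) := by
      rcases T.comm _ hn0 _ hm0 with h | h
      · left
        refine (L.eq_iff (⟨n, hnG⟩ * ⟨m, hmG⟩) (⟨m, hmG⟩ * ⟨n, hnG⟩)).1 ?_
        rw [map_mul, map_mul]; exact h
      · right
        have h3 := (L.eq_iff (⟨n, hnG⟩ * ⟨m, hmG⟩) (zz * (⟨m, hmG⟩ * ⟨n, hnG⟩))).1 (by
          rw [map_mul, map_mul, map_mul, hπz]; exact h)
        have h4 : n * m * (m * n)⁻¹ * (zz : V ≃ₗ[K] V)⁻¹ = n * m * (zz * (m * n))⁻¹ := by group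
        rw [h4]
        exact h3
    refine ⟨?_, hor⟩
    -- the commutator commutes with `Nh`
    have hkc : ∀ y ∈ Nh, (n * m * (m * n)⁻¹) * y = y * (n * m * (m * n)⁻¹) := by
      intro y hy
      rcases hor with h | h
      · exact h.central y
      · have h4 : n * m * (m * n)⁻¹ = (n * m * (m * n)⁻¹ * (zz : V ≃ₗ[K] V)⁻¹) * zz := by group
        rw [h4]
        generalize n * m * (m * n)⁻¹ * (zz : V ≃ₗ[K] V)⁻¹ = c at h
        rw [mul_assoc, hz_comm y hy, ← mul_assoc, h.central y, mul_assoc]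
    generalize hkdef : n * m * (m * n)⁻¹ = k' at hkc
    have h3 : n * m = k' * (m * n) := by rw [← hkdef]; group
    have h5 : n * n * m = k' * k' * (m * (n * n)) := by
      calc n * n * m = n * (n * m) := by group
        _ = n * (k' * (m * n)) := by rw [h3]
        _ = (n * k') * (m * n) := by group
        _ = (k' * n) * (m * n) := by rw [hkc n hn]
        _ = k' * (n * m) * n := by group
        _ = k' * (k' * (m * n)) * n := by rw [h3]
        _ = _ := by group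
    rw [hsqc n hn m hm] at h5
    have h6 : (1 : V ≃ₗ[K] V) * (m * (n * n)) = k' * k' * (m * (n * n)) := by rw [one_mul]; exact h5
    exact (mul_right_cancel h6).symm
  have hk_pm : ∀ k' : V ≃ₗ[K] V, k' * k' = 1 → (∀ y ∈ Nh, k' * y = y * k') →
      (IsSc k' ∨ IsSc (k' * (zz : V ≃ₗ[K] V)⁻¹)) →
      ∃ c : K, (c = 1 ∨ c = -1) ∧ ((∀ v, k' v = c • v) ∨ (∀ v, k' v = c • (zz : V ≃ₗ[K] V) v)) := by
    intro k' hk1 hk2 hk3
    obtain ⟨v0, hv0⟩ := hV
    rcases hk3 with ⟨c, hc⟩ | h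
    · refine ⟨c, ?_, Or.inl hc⟩
      have h3 : (k' * k') v0 = (c * c) • v0 := by
        change k' (k' v0) = _
        rw [hc, hc, smul_smul]
      rw [hk1] at h3
      have h4 : (1 : K) • v0 = (c * c) • v0 := by rw [one_smul]; exact h3
      exact mul_self_eq_one_iff.1 (smul_left_injective K hv0 h4).symm
    · obtain ⟨c, hc0, hc⟩ := smul_of_isSc h
      refine ⟨c, ?_, Or.inr hc⟩
      have h3 : (k' * k') v0 = (c * c) • v0 := by
        change k' (k' v0) = _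
        rw [hc (k' v0), hc v0, map_smul, smul_smul]
        change (c * c) • (((zz : V ≃ₗ[K] V) * zz) v0) = _
        rw [hz_sq]
        rfl
      rw [hk1] at h3
      have h4 : (1 : K) • v0 = (c * c) • v0 := by rw [one_smul]; exact h3
      exact mul_self_eq_one_iff.1 (smul_left_injective K hv0 h4).symm
  have hkc : ∀ n ∈ Nh, ∀ m ∈ Nh, ∀ y ∈ Nh, (n * m * (m * n)⁻¹) * y = y * (n * m * (m * n)⁻¹) := by
    intro n hn m hm y hy
    rcases (hcm n hn m hm).2 with h | h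
    · exact h.central y
    · have h4 : n * m * (m * n)⁻¹ = (n * m * (m * n)⁻¹ * (zz : V ≃ₗ[K] V)⁻¹) * zz := by group
      rw [h4]
      generalize n * m * (m * n)⁻¹ * (zz : V ≃ₗ[K] V)⁻¹ = c at h
      rw [mul_assoc, hz_comm y hy, ← mul_assoc, h.central y, mul_assoc]
  -- `xh`
  obtain ⟨e, he, hπe⟩ := hsurj k x T.xE
  have heG : e ∈ Gh := hEle he
  obtain ⟨k5, hk5⟩ := T.x_five
  have hfin : 0 < orderOf (⟨e, heG⟩ : ↥Gh) := orderOf_pos _
  obtain ⟨t, m, hm, hem⟩ := Nat.exists_eq_pow_mul_and_not_dvd hfin.ne' 5 (by norm_num)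
  have hcop : Nat.Coprime (5 ^ k5) m := Nat.Coprime.pow_left k5 ((Nat.Prime.coprime_iff_not_dvd (by norm_num)).2 hm)
  obtain ⟨u, hu1, hu2⟩ := Nat.chineseRemainder hcop 1 0
  have hx5 : (e ^ u) ^ 5 ^ t = 1 := by
    have h3 : (⟨e, heG⟩ : ↥Gh) ^ (u * 5 ^ t) = 1 := by
      obtain ⟨w, hw⟩ := (Nat.modEq_zero_iff_dvd).1 hu2
      rw [hw, show m * w * 5 ^ t = (5 ^ t * m) * w by ring, ← hem, pow_mul, pow_orderOf_eq_one, one_pow]
    rw [← pow_mul]
    exact congrArg Subtype.val h3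
  have hπx : ∀ h : e ^ u ∈ Gh, π ⟨e ^ u, h⟩ = x := by
    intro h
    have h3 : (⟨e ^ u, h⟩ : ↥Gh) = ⟨e, heG⟩ ^ u := rfl
    rw [h3, map_pow, hπe heG]
    have h4 : orderOf x ∣ 5 ^ k5 := orderOf_dvd_of_pow_eq_one hk5
    have h5 : x ^ u = x ^ 1 := pow_eq_pow_iff_modEq.2 (hu1.of_dvd h4)
    rw [h5, pow_one]
  obtain ⟨r', hr'⟩ := L.surj r
  have hrG := r'.2
  -- normalisers
  have hconjN : ∀ (Y : Subgroup G), r ∈ normalizer (Y : Set G) → ∀ W : Subgroup (V ≃ₗ[K] V),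
      (∀ g, g ∈ W ↔ ∃ h : g ∈ Gh, π ⟨g, h⟩ ∈ Y) → (r' : V ≃ₗ[K] V) ∈ normalizer (W : Set (V ≃ₗ[K] V)) := by
    intro Y hY W hW
    rw [mem_normalizer_iff] at hY ⊢
    intro g
    rw [hW, hW]
    constructor
    · rintro ⟨h, hg⟩
      refine ⟨mul_mem (mul_mem r'.2 h) (inv_mem r'.2), ?_⟩
      have h3 : (⟨(r' : V ≃ₗ[K] V) * g * (r' : V ≃ₗ[K] V)⁻¹, mul_mem (mul_mem r'.2 h) (inv_mem r'.2)⟩ : ↥Gh) =
        r' * ⟨g, h⟩ * r'⁻¹ := rfl
      rw [h3, map_mul, map_mul, map_inv, hr']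
      exact (hY _).1 hg
    · rintro ⟨h, hg⟩
      have h4 : g ∈ Gh := by
        have := mul_mem (mul_mem (inv_mem r'.2) h) r'.2
        have h5 : (r' : V ≃ₗ[K] V)⁻¹ * ((r' : V ≃ₗ[K] V) * g * (r' : V ≃ₗ[K] V)⁻¹) * r' = g := by group
        rwa [h5] at this
      refine ⟨h4, ?_⟩
      have h3 : (⟨(r' : V ≃ₗ[K] V) * g * (r' : V ≃ₗ[K] V)⁻¹, h⟩ : ↥Gh) = r' * ⟨g, h4⟩ * r'⁻¹ := rfl
      rw [h3, map_mul, map_mul, map_inv, hr'] at hg
      exact (hY _).2 hg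
  refine ⟨Nh, der E1 k, zz, s', e ^ u, r', ?_⟩
  exact
  { mem_Nh := memN
    Eh_le := hEle
    Eh_perf := hk
    Eh_mem := fun g hg h => ((memE g).1 (der_le E1 k hg)).2
    Eh_surj := hsurj k
    Eh_comm := hEN
    zN := hzN
    sN := hsN
    pi_z := fun h => hπz
    pi_s := fun h => hs'
    z_sq := hz_sq
    z_ne := fun h => T.z_ne (hπz ▸ (L.ker zz).2 h)
    z_comm := hz_comm
    comm := by
      intro n hn m hm
      obtain ⟨h1, h3⟩ := hcm n hn m hm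
      obtain ⟨c, hc1, hc2⟩ := hk_pm _ h1 (hkc n hn m hm) h3
      refine ⟨c, hc1, ?_⟩
      have h4 : n * m = (n * m * (m * n)⁻¹) * (m * n) := by group
      generalize n * m * (m * n)⁻¹ = k' at hc2 h4
      rcases hc2 with h | h
      · left
        intro v
        rw [h4]
        exact h _
      · right
        intro v
        rw [h4]
        exact h _
    sq := by
      intro n hn
      rcases hsq n hn with ⟨c, hc⟩ | h
      · obtain ⟨d, hd0, hd⟩ := exists_ne_of_smul (g := n * n) (h := 1) (c := c) hc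
        exact ⟨d, hd0, Or.inl hd⟩
      · obtain ⟨c, hc0, hc⟩ := smul_of_isSc h
        exact ⟨c, hc0, Or.inr hc⟩
    s_sq := L.smul_of_eq (g := s' * s') (h := zz) (by rw [map_mul, hs', hπz, T.s_sq])
    s_comm := by
      intro n hn
      obtain ⟨hnG, hn0⟩ := (memN n).1 hn
      have h3 : IsSc (n * (s' : V ≃ₗ[K] V) * ((s' : V ≃ₗ[K] V) * n)⁻¹) := by
        refine (L.eq_iff (⟨n, hnG⟩ * s') (s' * ⟨n, hnG⟩)).1 ?_
        rw [map_mul, map_mul, hs']
        exact T.s_cen _ hn0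
      have h4 : n * (s' : V ≃ₗ[K] V) = (n * (s' : V ≃ₗ[K] V) * ((s' : V ≃ₗ[K] V) * n)⁻¹) * ((s' : V ≃ₗ[K] V) * n) := by group
      obtain ⟨h1, -⟩ := hcm n hn _ hsN
      generalize n * (s' : V ≃ₗ[K] V) * ((s' : V ≃ₗ[K] V) * n)⁻¹ = k' at h1 h3 h4
      obtain ⟨c, hc⟩ := h3
      obtain ⟨v0, hv0⟩ := hV
      have h5 : (k' * k') v0 = (c * c) • v0 := by
        change k' (k' v0) = _
        rw [hc, hc, smul_smul]
      rw [h1] at h5
      have h6 : (1 : K) • v0 = (c * c) • v0 := by rw [one_smul]; exact h5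
      rcases mul_self_eq_one_iff.1 (smul_left_injective K hv0 h6).symm with rfl | rfl
      · left
        intro v
        rw [h4]
        exact (hc _).trans (one_smul _ _)
      · right
        intro v
        rw [h4]
        exact (hc _).trans (neg_one_smul _ _)
    xE := pow_mem he u
    pi_x := hπx
    x_five := ⟨t, hx5⟩
    rG := r'.2
    pi_r := fun h => hr'
    rN := hconjN N0 T.rN Nh memN
    rE := der_normalizer (hconjN E T.rE E1 memE) k
    r_s := L.smul_of_eq (g := r' * s') (h := s'⁻¹ * r') (by rw [map_mul, map_mul, map_inv, hs', hr', T.r_s]) }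

end Cfsg.Agent.H415.C3
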